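import Cfsg.Agent.Lib.GL23.Comb
import Mathlib.Data.Matrix.Mul
import Mathlib.Algebra.BigOperators.Fin
import Mathlib.Tactic.Abel
import Mathlib.Tactic.FinCases

/-!
# The coefficient combinatorics for the group `3³ : 2²`
-/

set_option autoImplicit false

namespace CfsgLib.ThreeCubed

open Matrix

variable {ι : Type*} [Fintype ι] [DecidableEq ι]

theorem exists_single {u : ι → ℤ} (hu : u ⬝ᵥ u = 1) :
    ∃ x ε, (ε = 1 ∨ ε = -1) ∧ u = Pi.single x ε := by
  obtain ⟨a, -, ha, h0⟩ := CfsgLib.GL23.exists_one_of_sum_sq Finset.univ u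
    (by rw [← hu]; exact Finset.sum_congr rfl fun i _ => sq (u i))
  refine ⟨a, u a, ha, funext fun i => ?_⟩
  by_cases hi : i = a
  · subst hi; rw [Pi.single_eq_same]
  · rw [Pi.single_eq_of_ne hi, h0 i (Finset.mem_univ _) hi]

theorem unit_cases {u v : ι → ℤ} (hu : u ⬝ᵥ u = 1) (hv : v ⬝ᵥ v = 1) :
    u ⬝ᵥ v = 0 ∨ v = u ∨ v = -u := by
  obtain ⟨x, ε, hε, rfl⟩ := exists_single hu
  obtain ⟨y, δ, hδ, rfl⟩ := exists_single hv
  by_cases h : y = x
  · subst h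
    rcases hε with rfl | rfl <;> rcases hδ with rfl | rfl <;>
      simp [← Pi.single_neg]
  · left
    rw [single_dotProduct, Pi.single_eq_of_ne (Ne.symm h), mul_zero]

theorem unit_eq_of_dot {u v : ι → ℤ} (hu : u ⬝ᵥ u = 1) (hv : v ⬝ᵥ v = 1) (h : u ⬝ᵥ v = 1) :
    v = u := by
  rcases unit_cases hu hv with h' | h' | h'
  · omega
  · exact h'
  · subst h'; rw [dotProduct_neg, hu] at h; omega

theorem dot_degree_ne_zero {u d : ι → ℤ} (hu : u ⬝ᵥ u = 1) (hd : ∀ x, 1 ≤ d x) :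
    u ⬝ᵥ d ≠ 0 := by
  obtain ⟨x, ε, hε, rfl⟩ := exists_single hu
  rw [single_dotProduct]
  have := hd x
  rcases hε with rfl | rfl <;> omega

omit [DecidableEq ι] in
/-- Bessel's inequality. -/
theorem bessel {κ : Type*} [Fintype κ] [DecidableEq κ] (e : κ → ι → ℤ)
    (he : ∀ a b, e a ⬝ᵥ e b = if a = b then 1 else 0) (q : ι → ℤ) :
    ∑ a, (q ⬝ᵥ e a) ^ 2 ≤ q ⬝ᵥ q := by
  let s : ι → ℤ := ∑ a, (q ⬝ᵥ e a) • e a
  have h1 : q ⬝ᵥ s = ∑ a, (q ⬝ᵥ e a) ^ 2 := by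
    simp only [s, dotProduct_sum, dotProduct_smul, smul_eq_mul, sq]
  have h2 : s ⬝ᵥ s = ∑ a, (q ⬝ᵥ e a) ^ 2 := by
    simp only [s, dotProduct_sum, sum_dotProduct, dotProduct_smul, smul_dotProduct, he, smul_eq_mul,
      mul_ite, mul_one, mul_zero, Finset.sum_ite_eq', Finset.mem_univ, if_true, sq]
  have h3 : 0 ≤ (q - s) ⬝ᵥ (q - s) := Finset.sum_nonneg fun i _ => mul_self_nonneg _
  rw [sub_dotProduct, dotProduct_sub, dotProduct_sub, dotProduct_comm s q, h1, h2] at h3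
  linarith

theorem split_two {v : ι → ℤ} {P : ι} (hP : v P = 0) (hv : v ⬝ᵥ v = 2) :
    ∃ x y : ι → ℤ, x ⬝ᵥ x = 1 ∧ y ⬝ᵥ y = 1 ∧ x ⬝ᵥ y = 0 ∧ x P = 0 ∧ y P = 0 ∧ v = x + y := by
  obtain ⟨a, -, b, -, hab, ha, hb, h0⟩ := CfsgLib.GL23.exists_two_of_sum_sq Finset.univ v
    (by rw [← hv]; exact Finset.sum_congr rfl fun i _ => sq (v i))
  have haP : a ≠ P := fun h => by rw [h, hP] at ha; omega
  have hbP : b ≠ P := fun h => by rw [h, hP] at hb; omega
  refine ⟨Pi.single a (v a), Pi.single b (v b), ?_, ?_, ?_, Pi.single_eq_of_ne haP.symm _,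
    Pi.single_eq_of_ne hbP.symm _, funext fun i => ?_⟩
  · rcases ha with h | h <;> simp [h]
  · rcases hb with h | h <;> simp [h]
  · simp [hab]
  · by_cases hia : i = a
    · subst hia; simp [hab]
    by_cases hib : i = b
    · subst hib; simp [hia]
    simp [hia, hib, h0 i (Finset.mem_univ _) hia hib]

theorem cross_zero {x y x' y' d : ι → ℤ} (hd : ∀ i, 1 ≤ d i) (hx : x ⬝ᵥ x = 1) (hy : y ⬝ᵥ y = 1)
    (hx' : x' ⬝ᵥ x' = 1) (hy' : y' ⬝ᵥ y' = 1) (hxy : x ⬝ᵥ y = 0) (hxy' : x' ⬝ᵥ y' = 0)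
    (h : (x + y) ⬝ᵥ (x' + y') = 0) (hd1 : (x + y) ⬝ᵥ d = 1) (hd2 : (x' + y') ⬝ᵥ d = 1) :
    x ⬝ᵥ x' = 0 := by
  rcases unit_cases hx hx' with h0 | rfl | rfl
  · exact h0
  · exfalso
    simp only [add_dotProduct, dotProduct_add, hx, hxy', dotProduct_comm y x', hxy] at h
    rcases unit_cases hy hy' with h0 | rfl | rfl
    · omega
    · omega
    · simp only [add_dotProduct, neg_dotProduct] at hd1 hd2
      exact dot_degree_ne_zero hy hd (by omega)
  · exfalso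
    simp only [neg_dotProduct, neg_eq_zero] at hxy'
    simp only [add_dotProduct, dotProduct_add, dotProduct_neg, hx, hxy', dotProduct_comm y x,
      hxy] at h
    rcases unit_cases hy hy' with h0 | rfl | rfl
    · omega
    · simp only [add_dotProduct, neg_dotProduct] at hd1 hd2
      exact dot_degree_ne_zero hx hd (by omega)
    · simp only [dotProduct_neg, hy] at h
      omega

theorem fin3_cases : ∀ i j k : Fin 3, i ≠ j → i ≠ k → j ≠ k →
    (j = i + 1 ∧ k = i + 2) ∨ (j = i + 2 ∧ k = i + 1) := by decide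

theorem sum_three (f : Fin 3 → ℤ) {i j k : Fin 3} (h1 : i ≠ j) (h2 : i ≠ k) (h3 : j ≠ k) :
    ∑ l, f l = f i + f j + f k := by
  rw [Fin.sum_univ_three]
  fin_cases i <;> fin_cases j <;> fin_cases k <;> simp at h1 h2 h3 ⊢ <;> ring

theorem mul_pred_nonneg (p : ℤ) : 0 ≤ p * p - p := by
  rcases le_or_gt p 0 with h | h <;> nlinarith

theorem choice_bound {a b c : ℤ} (h : 2 * a ^ 2 + (b ^ 2 + (1 - b) ^ 2) + (c ^ 2 + (1 - c) ^ 2) ≤ 3) :
    a = 0 ∧ (b = 0 ∨ b = 1) := by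
  have hb := mul_pred_nonneg b
  have hc := mul_pred_nonneg c
  have ha : a ^ 2 ≤ 0 := by nlinarith [sq_nonneg a]
  have ha0 : a = 0 := eq_zero_of_pow_eq_zero (le_antisymm ha (sq_nonneg a))
  refine ⟨ha0, ?_⟩
  have hb1 : b ≤ 1 := by nlinarith
  have hb0 : 0 ≤ b := by nlinarith
  omega

theorem pair_arith {x1 o1 x2 o2 x3 y3 z w : ℤ} (h1 : x1 + o1 = -1) (h2 : x2 + o2 = 0)
    (h3 : x3 + y3 = 0) (h4 : z + x2 + x3 = -1) (h5 : z + x1 + y3 = 0) (h6 : w + x1 + x2 = 0)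
    (hn : x1 ^ 2 + o1 ^ 2 + (x2 ^ 2 + o2 ^ 2) + (x3 ^ 2 + y3 ^ 2) + (z ^ 2 + w ^ 2) ≤ 3) :
    False := by
  obtain rfl : o1 = -1 - x1 := by omega
  obtain rfl : o2 = -x2 := by omega
  obtain rfl : y3 = -x3 := by omega
  obtain rfl : z = -1 - x2 - x3 := by omega
  obtain rfl : w = -x1 - x2 := by omega
  obtain rfl : x1 = 1 + x2 + 2 * x3 := by omega
  have a1 : x2 ≤ 1 := by nlinarith
  have a2 : -1 ≤ x2 := by nlinarith
  have a3 : x3 ≤ 1 := by nlinarith
  have a4 : -1 ≤ x3 := by nlinarith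
  interval_cases x2 <;> interval_cases x3 <;> norm_num at hn

theorem coherent_arith {pi oi pj oj pk ok zi zj zk : ℤ} (h1 : pi + oi = -1) (h2 : pj + oj = 0)
    (h3 : pk + ok = 0) (h4 : zi + pj + pk = -1) (h5 : zj + pi + pk = 0) (h6 : zk + pi + pj = 0)
    (hn : pi ^ 2 + oi ^ 2 + (pj ^ 2 + oj ^ 2) + (pk ^ 2 + ok ^ 2) +
      (zi ^ 2 + zj ^ 2 + zk ^ 2) ≤ 3) :
    oi = -1 ∧ zi = -1 := by
  obtain rfl : oi = -1 - pi := by omega
  obtain rfl : oj = -pj := by omega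
  obtain rfl : ok = -pk := by omega
  obtain rfl : zi = -1 - pj - pk := by omega
  obtain rfl : zj = -pi - pk := by omega
  obtain rfl : zk = -pi - pj := by omega
  have a1 : pj ≤ 1 := by nlinarith
  have a2 : -1 ≤ pj := by nlinarith
  have a3 : pk ≤ 1 := by nlinarith
  have a4 : -1 ≤ pk := by nlinarith
  have a5 : pi ≤ 1 := by nlinarith
  have a6 : -2 ≤ pi := by nlinarith
  interval_cases pi <;> interval_cases pj <;> interval_cases pk <;> revert hn <;> norm_num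

/-- The shape of the three families of integral vectors. -/
theorem exists_units (d : ι → ℤ) (P : ι) (hd : ∀ x, 1 ≤ d x) (hP : d P = 1)
    (A B Q : Fin 3 → ι → ℤ)
    (gAA : ∀ i j, A i ⬝ᵥ A j = if i = j then 3 else 1)
    (gBB : ∀ i j, B i ⬝ᵥ B j = if i = j then 3 else 1)
    (gBA : ∀ i j, B i ⬝ᵥ A j = if i = j then 0 else 1)
    (gQA : ∀ i j, Q i ⬝ᵥ A j = if i = j then -1 else 0)
    (gQB : ∀ i j, Q i ⬝ᵥ B j = if i = j then -1 else 0)
    (gQQ : ∀ i, Q i ⬝ᵥ Q i = 3)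
    (hAP : ∀ i, A i P = -1) (hBP : ∀ i, B i P = 0) (hQP : ∀ i, Q i P = 0)
    (hAd : ∀ i, A i ⬝ᵥ d = 0) (hBd : ∀ i, B i ⬝ᵥ d = 0)
    (hlin : ∀ x, d x = 1 → ¬ ∀ i, B i x = -1) :
    ∃ L Pp Pm R : Fin 3 → ι → ℤ, ∀ i,
      L i ⬝ᵥ L i = 1 ∧ Pp i ⬝ᵥ Pp i = 1 ∧ Pm i ⬝ᵥ Pm i = 1 ∧ R i ⬝ᵥ R i = 1 ∧
      A i = -(Pi.single P 1 : ι → ℤ) + Pp i - L i ∧ B i = Pm i - L (i + 1) - L (i + 2) ∧
      Q i = R i - Pp i - Pm i ∧
      A i ⬝ᵥ L i = -1 ∧ B (i + 1) ⬝ᵥ L i = -1 ∧ B (i + 2) ⬝ᵥ L i = -1 := by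
  -- the supports of the first family
  have hv : ∀ i, (A i + (Pi.single P 1 : ι → ℤ)) P = 0 := fun i => by simp [hAP]
  have hv2 : ∀ i, (A i + (Pi.single P 1 : ι → ℤ)) ⬝ᵥ (A i + (Pi.single P 1 : ι → ℤ)) = 2 := fun i => by
    simp [add_dotProduct, dotProduct_add, gAA, hAP]
  choose x y hx hy hxy hxP hyP hxys using fun i => split_two (hv i) (hv2 i)
  have hAeq : ∀ i, A i = -(Pi.single P 1 : ι → ℤ) + (x i + y i) := fun i => by rw [← hxys i]; abel
  have hsd : ∀ i, (x i + y i) ⬝ᵥ d = 1 := fun i => by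
    rw [← hxys i, add_dotProduct, hAd, single_dotProduct, hP]; ring
  have hs0 : ∀ i j, i ≠ j → (x i + y i) ⬝ᵥ (x j + y j) = 0 := fun i j hij => by
    rw [← hxys i, ← hxys j]
    simp [add_dotProduct, dotProduct_add, gAA, hAP, hij]
  let e : Fin 3 × Bool → ι → ℤ := fun a => if a.2 then y a.1 else x a.1
  have he : ∀ a b, e a ⬝ᵥ e b = if a = b then 1 else 0 := by
    rintro ⟨i, s⟩ ⟨j, t⟩
    by_cases hij : i = j
    · subst hij
      cases s <;> cases t <;> simp [e, hx, hy, hxy, dotProduct_comm (y i) (x i)]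
    · have h0 := hs0 i j hij
      have h0' : (y i + x i) ⬝ᵥ (x j + y j) = 0 := by rwa [add_comm (y i)]
      have h0'' : (x i + y i) ⬝ᵥ (y j + x j) = 0 := by rwa [add_comm (y j)]
      have h0''' : (y i + x i) ⬝ᵥ (y j + x j) = 0 := by rwa [add_comm (y i), add_comm (y j)]
      have c1 := cross_zero hd (hx i) (hy i) (hx j) (hy j) (hxy i) (hxy j) h0 (hsd i) (hsd j)
      have c2 := cross_zero hd (hy i) (hx i) (hx j) (hy j) (by rw [dotProduct_comm, hxy]) (hxy j)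
        h0' (by rw [add_comm, hsd]) (hsd j)
      have c3 := cross_zero hd (hx i) (hy i) (hy j) (hx j) (hxy i) (by rw [dotProduct_comm, hxy])
        h0'' (hsd i) (by rw [add_comm, hsd])
      have c4 := cross_zero hd (hy i) (hx i) (hy j) (hx j) (by rw [dotProduct_comm, hxy])
        (by rw [dotProduct_comm, hxy]) h0''' (by rw [add_comm, hsd]) (by rw [add_comm, hsd])
      cases s <;> cases t <;> simp [e, hij, c1, c2, c3, c4]
  have heP : ∀ a, e a P = 0 := by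
    rintro ⟨i, _ | _⟩ <;> simp [e, hxP, hyP]
  have hpair : ∀ i s, e (i, s) + e (i, !s) = x i + y i := by
    intro i s; cases s
    · simp [e]
    · simp [e, add_comm (x i)]
  have hqe : ∀ (q : ι → ℤ) (i : Fin 3) (s : Bool),
      q ⬝ᵥ e (i, s) + q ⬝ᵥ e (i, !s) = q ⬝ᵥ A i + q P := fun q i s => by
    rw [← dotProduct_add, hpair, ← hxys i, dotProduct_add, dotProduct_single, mul_one]
  have hsum : ∀ (q : ι → ℤ) (r : Fin 3 → Bool) {i j k : Fin 3}, i ≠ j → i ≠ k → j ≠ k →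
      ∑ a, (q ⬝ᵥ e a) ^ 2 = (q ⬝ᵥ e (i, r i)) ^ 2 + (q ⬝ᵥ e (i, !r i)) ^ 2 +
        ((q ⬝ᵥ e (j, r j)) ^ 2 + (q ⬝ᵥ e (j, !r j)) ^ 2) +
        ((q ⬝ᵥ e (k, r k)) ^ 2 + (q ⬝ᵥ e (k, !r k)) ^ 2) := by
    intro q r i j k h1 h2 h3
    rw [Fintype.sum_prod_type, sum_three _ h1 h2 h3]
    simp only [Fintype.sum_bool]
    cases r i <;> cases r j <;> cases r k <;> simp only [Bool.not_false, Bool.not_true] <;> ring
  -- the second family
  have hchoice : ∀ i j k : Fin 3, i ≠ j → i ≠ k → j ≠ k →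
      B i ⬝ᵥ x i = 0 ∧ B i ⬝ᵥ y i = 0 ∧
      ((B i ⬝ᵥ x j = 0 ∧ B i ⬝ᵥ y j = 1) ∨ (B i ⬝ᵥ x j = 1 ∧ B i ⬝ᵥ y j = 0)) := by
    intro i j k h1 h2 h3
    have e1 := hqe (B i) i false
    have e2 := hqe (B i) j false
    have e3 := hqe (B i) k false
    rw [gBA, if_pos rfl, hBP] at e1
    rw [gBA, if_neg h1, hBP] at e2
    rw [gBA, if_neg h2, hBP] at e3
    have hb := bessel e he (B i)
    rw [hsum (B i) (fun _ => false) h1 h2 h3, gBB, if_pos rfl] at hb
    simp only [e, Bool.not_false, if_true, Bool.false_eq_true, if_false] at e1 e2 e3 hb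
    rw [show B i ⬝ᵥ y i = -(B i ⬝ᵥ x i) by omega, show B i ⬝ᵥ y j = 1 - B i ⬝ᵥ x j by omega,
      show B i ⬝ᵥ y k = 1 - B i ⬝ᵥ x k by omega] at hb
    obtain ⟨p1, p2⟩ := choice_bound (a := B i ⬝ᵥ x i) (b := B i ⬝ᵥ x j) (c := B i ⬝ᵥ x k)
      (by linarith)
    omega
  let σ : Fin 3 → Fin 3 → Bool := fun i j => decide (B i ⬝ᵥ y j = 1)
  have hBe : ∀ i j k : Fin 3, i ≠ j → i ≠ k → j ≠ k → ∀ s,
      B i ⬝ᵥ e (i, s) = 0 ∧ B i ⬝ᵥ e (j, s) = if s = σ i j then 1 else 0 := by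
    intro i j k h1 h2 h3 s
    obtain ⟨p1, p2, ⟨p3, p4⟩ | ⟨p3, p4⟩⟩ := hchoice i j k h1 h2 h3 <;>
      cases s <;> simp [e, σ, p1, p2, p3, p4]
  let z : Fin 3 → ι → ℤ := fun i => B i - e (i + 1, σ i (i + 1)) - e (i + 2, σ i (i + 2))
  have hB : ∀ i j k : Fin 3, i ≠ j → i ≠ k → j ≠ k →
      B i = z i + e (j, σ i j) + e (k, σ i k) := by
    intro i j k h1 h2 h3
    rcases fin3_cases i j k h1 h2 h3 with ⟨rfl, rfl⟩ | ⟨rfl, rfl⟩ <;> simp only [z] <;> abel
  have hzB : ∀ i j k : Fin 3, i ≠ j → i ≠ k → j ≠ k →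
      z i = B i - e (j, σ i j) - e (k, σ i k) := by
    intro i j k h1 h2 h3
    rw [hB i j k h1 h2 h3]; abel
  have hothers : ∀ i : Fin 3, ∃ j k : Fin 3, i ≠ j ∧ i ≠ k ∧ j ≠ k := by decide
  have hze : ∀ i a, z i ⬝ᵥ e a = 0 := by
    rintro i ⟨l, s⟩
    obtain ⟨j, k, h1, h2, h3⟩ := hothers i
    obtain ⟨q1, q2⟩ := hBe i j k h1 h2 h3 s
    have q3 := (hBe i k j h2 h1 h3.symm s).2
    rw [hzB i j k h1 h2 h3, sub_dotProduct, sub_dotProduct, he, he]
    rcases (by decide : ∀ a b c l : Fin 3, a ≠ b → a ≠ c → b ≠ c → l = a ∨ l = b ∨ l = c)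
      i j k l h1 h2 h3 with rfl | rfl | rfl
    · simp [q1, h1.symm, h2.symm]
    · simp [q2, h3, eq_comm]
    · simp [q3, h3.symm, eq_comm]
  have hzz : ∀ i, z i ⬝ᵥ z i = 1 := by
    intro i
    obtain ⟨j, k, h1, h2, h3⟩ := hothers i
    nth_rewrite 2 [hzB i j k h1 h2 h3]
    rw [dotProduct_sub, dotProduct_sub, hze, hze, hzB i j k h1 h2 h3, sub_dotProduct,
      sub_dotProduct, gBB, if_pos rfl, dotProduct_comm (e (j, σ i j)), dotProduct_comm (e (k, σ i k)),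
      (hBe i j k h1 h2 h3 _).2, (hBe i k j h2 h1 h3.symm _).2, if_pos rfl, if_pos rfl]
    ring
  have hzP : ∀ i, z i P = 0 := fun i => by simp [z, hBP, heP]
  have hzz' : ∀ i j k : Fin 3, i ≠ j → i ≠ k → j ≠ k →
      z i ⬝ᵥ z j = if σ i k = σ j k then 0 else 1 := by
    intro i j k h1 h2 h3
    rw [hzB j i k h1.symm h3 h2, dotProduct_sub, dotProduct_sub, hze, hze, hzB i j k h1 h2 h3,
      sub_dotProduct, sub_dotProduct, gBB, if_neg h1, dotProduct_comm (e (j, σ i j)),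
      dotProduct_comm (e (k, σ i k)), (hBe j i k h1.symm h3 h2 _).1,
      (hBe j k i h3 h1.symm h2.symm _).2]
    split <;> ring
  by_cases hcoh : ∀ i j k : Fin 3, i ≠ j → i ≠ k → j ≠ k → σ i k = σ j k
  · -- the coherent case
    let τ : Fin 3 → Bool := fun k => σ (k + 1) k
    have hτ : ∀ i k : Fin 3, i ≠ k → σ i k = τ k := by
      intro i k hik
      by_cases hi : i = k + 1
      · rw [hi]
      · exact hcoh i (k + 1) k hi hik ((by decide : ∀ l : Fin 3, l + 1 ≠ l) k)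
    have hzorth : ∀ i j, z i ⬝ᵥ z j = if i = j then 1 else 0 := by
      intro i j
      by_cases hij : i = j
      · subst hij; rw [if_pos rfl, hzz]
      · obtain ⟨k, hk1, hk2⟩ : ∃ k : Fin 3, i ≠ k ∧ j ≠ k := by revert i j; decide
        rw [if_neg hij, hzz' i j k hij hk1 hk2, if_pos (hcoh i j k hij hk1 hk2)]
    have hBτ : ∀ i j k : Fin 3, i ≠ j → i ≠ k → j ≠ k →
        B i = z i + e (j, τ j) + e (k, τ k) := fun i j k h1 h2 h3 => by
      rw [← hτ i j h1, ← hτ i k h2]; exact hB i j k h1 h2 h3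
    refine ⟨fun i => -e (i, τ i), fun i => e (i, !τ i), z,
      fun i => Q i + e (i, !τ i) + z i, fun i => ?_⟩
    obtain ⟨j, k, hj, hk, hi1, hi2, h12⟩ : ∃ j k : Fin 3,
        i + 1 = j ∧ i + 2 = k ∧ i ≠ j ∧ i ≠ k ∧ j ≠ k :=
      ⟨_, _, rfl, rfl, (by decide : ∀ l : Fin 3, l ≠ l + 1 ∧ l ≠ l + 2 ∧ l + 1 ≠ l + 2) i⟩
    rw [hj, hk]
    have q1 := hqe (Q i) i (τ i)
    have q2 := hqe (Q i) j (τ j)
    have q3 := hqe (Q i) k (τ k)
    rw [gQA, if_pos rfl, hQP] at q1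
    rw [gQA, if_neg hi1, hQP] at q2
    rw [gQA, if_neg hi2, hQP] at q3
    have b1 := congrArg (Q i ⬝ᵥ ·) (hBτ i j k hi1 hi2 h12)
    have b2 := congrArg (Q i ⬝ᵥ ·) (hBτ j i k hi1.symm h12 hi2)
    have b3 := congrArg (Q i ⬝ᵥ ·) (hBτ k i j hi2.symm h12.symm hi1)
    simp only [dotProduct_add, gQB, if_true, if_neg hi1, if_neg hi2] at b1 b2 b3
    have hb := bessel (Sum.elim e z) (fun a b => by
      rcases a with a | a <;> rcases b with b | b <;>
        simp [he, hze, hzorth, dotProduct_comm (e _) (z _)]) (Q i)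
    simp only [Fintype.sum_sum_type, Sum.elim_inl, Sum.elim_inr,
      hsum (Q i) τ hi1 hi2 h12, sum_three (fun l => (Q i ⬝ᵥ z l) ^ 2) hi1 hi2 h12, gQQ] at hb
    obtain ⟨r1, r2⟩ := coherent_arith (pi := Q i ⬝ᵥ e (i, τ i)) (pj := Q i ⬝ᵥ e (j, τ j))
      (pk := Q i ⬝ᵥ e (k, τ k)) (zj := Q i ⬝ᵥ z j) (zk := Q i ⬝ᵥ z k) (by linarith) (by linarith)
      (by linarith) (by linarith) (by linarith) (by linarith) hb
    refine ⟨?_, ?_, hzz i, ?_, ?_, ?_, ?_, ?_, ?_, ?_⟩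
    · simp [he]
    · simp [he]
    · simp only [add_dotProduct, dotProduct_add, gQQ, he, hzz, hze, if_true,
        dotProduct_comm (e (i, !τ i)) (Q i), dotProduct_comm (z i) (Q i),
        dotProduct_comm (e (i, !τ i)) (z i), r1, r2]
      ring
    · rw [hAeq, ← hpair i (τ i)]
      funext w
      simp only [Pi.add_apply, Pi.sub_apply, Pi.neg_apply]
      ring
    · rw [hBτ i j k hi1 hi2 h12]
      funext w
      simp only [Pi.add_apply, Pi.sub_apply, Pi.neg_apply]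
      ring
    · funext w
      simp only [Pi.add_apply, Pi.sub_apply]
      ring
    · rw [hAeq, ← hpair i (τ i)]
      simp [add_dotProduct, he, single_dotProduct, heP]
    · rw [hBτ j i k hi1.symm h12 hi2]
      simp [add_dotProduct, he, hze, hi2.symm]
    · rw [hBτ k i j hi2.symm h12.symm hi1]
      simp [add_dotProduct, he, hze, hi1.symm]
  · exfalso
    push Not at hcoh
    obtain ⟨i, j, k, h1, h2, h3, hne⟩ := hcoh
    have hzij : z j = z i :=
      unit_eq_of_dot (hzz i) (hzz j) (by rw [hzz' i j k h1 h2 h3, if_neg hne])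
    by_cases hik : σ i j = σ k j
    · -- exactly one pair
      have hzik : z i ⬝ᵥ z k = 0 := by rw [hzz' i k j h2 h1 h3.symm, if_pos hik]
      have hjk : σ j i = σ k i := by
        have hh := hzz' j k i h3 h1.symm h2.symm
        rw [hzij, hzik] at hh
        by_contra hc
        rw [if_neg hc] at hh
        omega
      have q1 := hqe (Q i) i (σ j i)
      have q2 := hqe (Q i) j (σ i j)
      have q3 := hqe (Q i) k (σ i k)
      rw [gQA, if_pos rfl, hQP] at q1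
      rw [gQA, if_neg h1, hQP] at q2
      rw [gQA, if_neg h2, hQP] at q3
      have b1 := congrArg (Q i ⬝ᵥ ·) (hB i j k h1 h2 h3)
      have b2 := congrArg (Q i ⬝ᵥ ·) (hB j i k h1.symm h3 h2)
      have b3 := congrArg (Q i ⬝ᵥ ·) (hB k i j h2.symm h3.symm h1)
      rw [← (by decide : ∀ a b : Bool, a ≠ b → (!a) = b) _ _ hne, hzij] at b2
      rw [← hjk, ← hik] at b3
      simp only [dotProduct_add, gQB, if_true, if_neg h1, if_neg h2] at b1 b2 b3
      have hb := bessel (Sum.elim e (fun b : Bool => if b then z k else z i)) (fun a b => by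
        rcases a with a | a <;> rcases b with b | b
        · simp [he]
        · cases b <;> simp [hze, dotProduct_comm (e _) (z _)]
        · cases a <;> simp [hze]
        · cases a <;> cases b <;> simp [hzz, hzik, dotProduct_comm (z k) (z i)]) (Q i)
      let r : Fin 3 → Bool := fun l => if l = i then σ j i else if l = j then σ i j else σ i k
      simp only [Fintype.sum_sum_type, Sum.elim_inl, Sum.elim_inr, Fintype.sum_bool, if_true,
        Bool.false_eq_true, if_false, gQQ, hsum (Q i) r h1 h2 h3] at hb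
      simp only [r, if_true, if_neg h1.symm, if_neg h2.symm, if_neg h3.symm] at hb
      exact pair_arith (x1 := Q i ⬝ᵥ e (i, σ j i)) (x2 := Q i ⬝ᵥ e (j, σ i j))
        (x3 := Q i ⬝ᵥ e (k, σ i k)) (z := Q i ⬝ᵥ z i) (w := Q i ⬝ᵥ z k)
        (o1 := Q i ⬝ᵥ e (i, !σ j i)) (o2 := Q i ⬝ᵥ e (j, !σ i j)) (y3 := Q i ⬝ᵥ e (k, !σ i k))
        (by linarith) (by linarith) (by linarith) (by linarith) (by linarith) (by linarith)
        (by linarith)
    · -- all three equal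
      have hzk : z k = z i :=
        unit_eq_of_dot (hzz i) (hzz k) (by rw [hzz' i k j h2 h1 h3.symm, if_neg hik])
      have hjk : σ j i ≠ σ k i := by
        intro hc
        have hh := hzz' j k i h3 h1.symm h2.symm
        rw [hzij, hzk, hzz, if_pos hc] at hh
        omega
      have d1 := congrArg (· ⬝ᵥ d) (hB i j k h1 h2 h3)
      have d2 := congrArg (· ⬝ᵥ d) (hB j i k h1.symm h3 h2)
      have d3 := congrArg (· ⬝ᵥ d) (hB k i j h2.symm h3.symm h1)
      simp only [add_dotProduct, hBd, hzij, hzk] at d1 d2 d3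
      have k1 := congrArg (· ⬝ᵥ d) (hpair i (σ j i))
      have k2 := congrArg (· ⬝ᵥ d) (hpair j (σ i j))
      have k3 := congrArg (· ⬝ᵥ d) (hpair k (σ i k))
      simp only [hsd] at k1 k2 k3
      rw [(by decide : ∀ a b : Bool, a ≠ b → (!a) = b) _ _ hjk,
        add_dotProduct] at k1
      rw [(by decide : ∀ a b : Bool, a ≠ b → (!a) = b) _ _ hik,
        add_dotProduct] at k2
      rw [(by decide : ∀ a b : Bool, a ≠ b → (!a) = b) _ _ hne,
        add_dotProduct] at k3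
      have hzd : z i ⬝ᵥ d = -1 := by linarith
      obtain ⟨a, ε, hε, hza⟩ := exists_single (hzz i)
      rw [hza, single_dotProduct] at hzd
      have := hd a
      rcases hε with rfl | rfl
      · omega
      refine hlin a (by omega) fun l => ?_
      have hl : z l = z i := by
        rcases (by decide : ∀ a b c l : Fin 3, a ≠ b → a ≠ c → b ≠ c → l = a ∨ l = b ∨ l = c)
          i j k l h1 h2 h3 with rfl | rfl | rfl
        · rfl
        · exact hzij
        · exact hzk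
      obtain ⟨p, q, g1, g2, g3⟩ := hothers l
      have hh : B l ⬝ᵥ z l = 1 := by
        rw [hB l p q g1 g2 g3, add_dotProduct, add_dotProduct, hzz, dotProduct_comm (e _),
          dotProduct_comm (e _), hze, hze]
        ring
      rw [hl, hza, dotProduct_single] at hh
      omega

end CfsgLib.ThreeCubed
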