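import Cfsg.Agent.Lib.Characters.Induction
import Cfsg.Agent.Lib.Characters.Decomp
import Mathlib.Tactic.Group

/-!
# Induction of functions supported on a trivial intersection set of a subgroup
-/

set_option autoImplicit false

namespace CfsgLib.SpecialClasses

open Cfsg CfsgLib.Characters
open scoped ComplexConjugate

universe u

variable {G : Type u} [Group G] [Fintype G] (H : Subgroup G) (supp : H → Prop) (θ : H → ℂ)

/-- On the support the induced function is the given one. -/
theorem ind_apply_supp (hθ : ∀ h, ¬ supp h → θ h = 0) (hθc : IsClassFunction H θ)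
    (hTI : ∀ x y : H, supp x → supp y → ∀ g : G, g * x * g⁻¹ = y → g ∈ H) {x : H} (hx : supp x) :
    indFun H θ (x : G) = θ x := by
  classical
  rw [CfsgLib.Induction.indFun_apply]
  have key : ∀ g : G, extendByZero H θ (g⁻¹ * x * g) = if g ∈ H then θ x else 0 := by
    intro g
    by_cases hg : g ∈ H
    · rw [if_pos hg]
      have hm : g⁻¹ * x * g ∈ H := mul_mem (mul_mem (inv_mem hg) x.2) hg
      rw [CfsgLib.Induction.extendByZero_mem _ _ hm]
      rw [show (⟨g⁻¹ * x * g, hm⟩ : H) = (⟨g, hg⟩ : H)⁻¹ * x * (⟨g, hg⟩ : H)⁻¹⁻¹ from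
        Subtype.ext (by simp)]
      exact hθc x _
    · rw [if_neg hg]
      by_cases hm : g⁻¹ * x * g ∈ H
      · rw [CfsgLib.Induction.extendByZero_mem _ _ hm]
        exact hθ _ fun hy => hg (hTI _ _ hy hx g (show g * (g⁻¹ * x * g) * g⁻¹ = x by group))
      · rw [CfsgLib.Induction.extendByZero_notMem _ _ hm]
  rw [Finset.sum_congr rfl fun g _ => key g, ← Finset.sum_filter, Finset.sum_const, nsmul_eq_mul,
    ← Fintype.card_subtype, ← Nat.card_eq_fintype_card]
  have := CfsgLib.Induction.natCard_ne_zero' (X := H)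
  field_simp

/-- The induced function vanishes on elements of square one when the support has none. -/
theorem ind_apply_sq (hθ : ∀ h, ¬ supp h → θ h = 0) (hsq : ∀ h : H, supp h → h * h ≠ 1) {g : G}
    (hg : g * g = 1) : indFun H θ g = 0 := by
  rw [CfsgLib.Induction.indFun_apply, Finset.sum_eq_zero, mul_zero]
  intro y _
  by_cases hm : y⁻¹ * g * y ∈ H
  · rw [CfsgLib.Induction.extendByZero_mem _ _ hm]
    refine hθ _ fun h => hsq _ h (Subtype.ext ?_)
    show y⁻¹ * g * y * (y⁻¹ * g * y) = 1
    rw [show y⁻¹ * g * y * (y⁻¹ * g * y) = y⁻¹ * (g * g) * y by group, hg]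
    group
  · rw [CfsgLib.Induction.extendByZero_notMem _ _ hm]

/-- Induction from the subgroup is an isometry. -/
theorem inner_ind [Fintype H] (hθ : ∀ h, ¬ supp h → θ h = 0) {θ' : H → ℂ}
    (hθ' : ∀ h, ¬ supp h → θ' h = 0) (hθc : IsClassFunction H θ')
    (hTI : ∀ x y : H, supp x → supp y → ∀ g : G, g * x * g⁻¹ = y → g ∈ H) :
    classInner (indFun H θ) (indFun H θ') = classInner θ θ' := by
  rw [CfsgLib.Induction.classInner_indFun _ _ (CfsgLib.Induction.isClassFunction_indFun H θ')]
  unfold classInner
  congr 1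
  refine Finset.sum_congr rfl fun h _ => ?_
  by_cases hh : supp h
  · dsimp only
    rw [ind_apply_supp H supp θ' hθ' hθc hTI hh]
  · rw [hθ h hh, zero_mul, zero_mul]

/-- The sum of an induced function over the products of two conjugates of an involution. -/
theorem sum_class_ind [Fintype H] [DecidableRel (IsConj : G → G → Prop)]
    (hθ : ∀ h, ¬ supp h → θ h = 0) {u : G} (hu : u * u = 1)
    (hinv : ∀ (a : G) (x : H), supp x → a * a = 1 → a * x * (a * x) = 1 → a ∈ H) :
    ∑ a ∈ Finset.univ.filter (IsConj u), ∑ b ∈ Finset.univ.filter (IsConj u),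
        indFun H θ (a * b) =
      (Nat.card G : ℂ) * (Nat.card H : ℂ)⁻¹ *
        ∑ a ∈ Finset.univ.filter (fun a : H => IsConj u (a : G)),
          ∑ b ∈ Finset.univ.filter (fun b : H => IsConj u (b : G)), θ (a * b) := by
  classical
  let n : G → ℂ := fun x =>
    ((Finset.univ.filter fun a : G => IsConj u a ∧ IsConj u (a * x)).card : ℂ)
  have hconj : ∀ g a : G, IsConj u (g * a * g⁻¹) ↔ IsConj u a := fun g a =>
    ⟨fun h => h.trans (isConj_iff.2 ⟨g⁻¹, by group⟩), fun h => h.trans (isConj_iff.2 ⟨g, rfl⟩)⟩
  have hn : IsClassFunction G n := by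
    intro x g
    simp only [n]
    congr 1
    refine (Finset.card_bij' (fun a _ => g * a * g⁻¹) (fun a _ => g⁻¹ * a * g) ?_ ?_ ?_ ?_).symm
    · intro a ha
      simp only [Finset.mem_filter, Finset.mem_univ, true_and] at ha ⊢
      refine ⟨(hconj g a).2 ha.1, ?_⟩
      rw [show g * a * g⁻¹ * (g * x * g⁻¹) = g * (a * x) * g⁻¹ by group]
      exact (hconj g _).2 ha.2
    · intro a ha
      simp only [Finset.mem_filter, Finset.mem_univ, true_and] at ha ⊢
      refine ⟨(hconj g _).1 (by simpa [mul_assoc] using ha.1), (hconj g _).1 ?_⟩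
      rw [show g * (g⁻¹ * a * g * x) * g⁻¹ = a * (g * x * g⁻¹) by group]
      exact ha.2
    · intro a _; group
    · intro a _; group
  have hsq : ∀ a : G, IsConj u a → a * a = 1 := by
    intro a ha
    obtain ⟨g, rfl⟩ := isConj_iff.1 ha
    rw [show g * u * g⁻¹ * (g * u * g⁻¹) = g * (u * u) * g⁻¹ by group, hu]
    group
  have h1 : ∀ F : G → ℂ, ∑ a ∈ Finset.univ.filter (IsConj u),
      ∑ b ∈ Finset.univ.filter (IsConj u), F (a * b) = ∑ x : G, F x * n x := by
    intro F
    calc ∑ a ∈ Finset.univ.filter (IsConj u), ∑ b ∈ Finset.univ.filter (IsConj u), F (a * b)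
        = ∑ a ∈ Finset.univ.filter (IsConj u), ∑ x : G, if IsConj u (a * x) then F x else 0 := by
          refine Finset.sum_congr rfl fun a ha => ?_
          rw [Finset.sum_filter]
          refine Fintype.sum_equiv (Equiv.mulLeft a) _ _ fun b => ?_
          rw [Equiv.coe_mulLeft, ← mul_assoc, hsq a (Finset.mem_filter.1 ha).2, one_mul]
      _ = ∑ x : G, F x * n x := by
          rw [Finset.sum_comm]
          refine Finset.sum_congr rfl fun x _ => ?_
          rw [← Finset.sum_filter, Finset.sum_const, Finset.filter_filter, nsmul_eq_mul, mul_comm]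
  have h2 := CfsgLib.Induction.sum_indFun_mul H θ (f := n) hn
  have h3 : ∑ h : H, θ h * n h = ∑ a ∈ Finset.univ.filter (fun a : H => IsConj u (a : G)),
      ∑ b ∈ Finset.univ.filter (fun b : H => IsConj u (b : G)), θ (a * b) := by
    calc ∑ h : H, θ h * n h
        = ∑ h : H, ∑ a : H, if IsConj u (a : G) ∧ IsConj u ((a : G) * h) then θ h else 0 := by
          refine Finset.sum_congr rfl fun h _ => ?_
          by_cases hh : supp h
          · rw [← Finset.sum_filter, Finset.sum_const, nsmul_eq_mul, mul_comm]
            congr 1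
            simp only [n]
            congr 1
            refine (Finset.card_bij (fun (a : H) _ => (a : G)) ?_ ?_ ?_).symm
            · intro a ha
              exact Finset.mem_filter.2 ⟨Finset.mem_univ _, (Finset.mem_filter.1 ha).2⟩
            · intro a _ b _ hab
              exact Subtype.ext hab
            · intro a ha
              obtain ⟨ha1, ha2⟩ := (Finset.mem_filter.1 ha).2
              exact ⟨⟨a, hinv a h hh (hsq a ha1) (hsq _ ha2)⟩,
                Finset.mem_filter.2 ⟨Finset.mem_univ _, ha1, ha2⟩, rfl⟩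
          · simp [hθ h hh]
      _ = ∑ a ∈ Finset.univ.filter (fun a : H => IsConj u (a : G)),
          ∑ b ∈ Finset.univ.filter (fun b : H => IsConj u (b : G)), θ (a * b) := by
          rw [Finset.sum_comm, Finset.sum_filter]
          refine Finset.sum_congr rfl fun a _ => ?_
          by_cases ha : IsConj u (a : G)
          · rw [if_pos ha, Finset.sum_filter]
            refine Fintype.sum_equiv (Equiv.mulLeft a) _ _ fun h => ?_
            have e : a * (a * h) = h := by
              rw [← mul_assoc, show a * a = 1 from Subtype.ext (hsq _ ha), one_mul]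
            simp only [Equiv.coe_mulLeft, Subgroup.coe_mul, ha, true_and, e]
          · rw [if_neg ha]
            exact Finset.sum_eq_zero fun h _ => if_neg fun hc => ha hc.1
  have hg := CfsgLib.Induction.natCard_ne_zero' (X := G)
  rw [h1, ← h3, mul_assoc, ← h2, ← mul_assoc, mul_inv_cancel₀ hg, one_mul]

end CfsgLib.SpecialClasses
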