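import Cfsg.Agent.Lib.ThreeCubed.Model
import Cfsg.Agent.Lib.ThreeCubed.Comb
import Cfsg.Agent.Lib.ThreeCubed.SpecialClasses
import Cfsg.Agent.Lib.GL23.Main
import Cfsg.Agent.Lib.Coprime.HyperplaneGeneration
import Cfsg.Agent.Lib.Characters.LinearExt
import Mathlib.GroupTheory.Nilpotent
import Mathlib.GroupTheory.Transfer

/-!
# The exceptional characters attached to a strongly embedded `3³ : 2²`
-/

set_option autoImplicit false
set_option linter.style.haveILetI false
set_option linter.unusedSectionVars false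

namespace CfsgLib.ThreeCubed

open Cfsg CfsgLib.Characters Matrix
open scoped ComplexConjugate

/-! ### Homomorphisms from the model -/

theorem lam_mul (i : Fin 3) (v w : Vec) : lam i (v * w) = lam i v * lam i w := by
  rw [lam, cmp_mul, sgn_mul]; rfl

/-- The four linear characters. -/
def nu : Option (Fin 3) → Vec → ℤ
  | none, _ => 1
  | some i, v => lam i v

theorem nu_mul (o : Option (Fin 3)) (v w : Vec) : nu o (v * w) = nu o v * nu o w := by
  cases o with
  | none => simp [nu]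
  | some i => exact lam_mul i v w

theorem nu_one : ∀ o : Option (Fin 3), nu o 1 = 1 := by decide +kernel

theorem nu_Tset : ∀ o : Option (Fin 3), ∀ v ∈ Tset, nu o v = 1 := by decide +kernel

theorem nu_gens : ∀ s t : Bool, ∃ o : Option (Fin 3),
    nu o g4 = (if s then 1 else -1) ∧ nu o g5 = (if t then 1 else -1) := by decide +kernel

theorem lam01_Tset : ∀ v ∈ Mset, lam 0 v = 1 → lam 1 v = 1 → v ∈ Tset := by decide +kernel

theorem hlin_table : ∀ o : Option (Fin 3),
    ¬ ∀ i, ∑ v ∈ Mset, fB i v * nu o v = -108 := by decide +kernel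

theorem res_table : ∀ (i : Fin 3) (o : Option (Fin 3)),
    ∑ v ∈ Mset, fA i v * nu o v = -108 → ∑ v ∈ Mset, fB (i + 1) v * nu o v = -108 →
      o = some i := by decide +kernel

theorem pow27_Tset : ∀ v ∈ Mset, v ^ 27 = 1 → v ∈ Tset := by decide +kernel

/-- A homomorphism on the model is one of the four linear characters. -/
theorem hom_cases (μ : M →* ℂ) : ∃ o, ∀ v : M, μ v = (nu o v : ℂ) := by
  have hk : ∀ v : M, (v : Vec) ∈ Tset → μ v = 1 := by
    intro v hv
    obtain ⟨w, hw, z, hz, w', hw', z', hz', h⟩ := Tset_commutator _ hv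
    let W : M := ⟨w, mem_Mset.1 hw⟩
    let Z : M := ⟨z, mem_Mset.1 hz⟩
    let W' : M := ⟨w', mem_Mset.1 hw'⟩
    let Z' : M := ⟨z', mem_Mset.1 hz'⟩
    have hc : ∀ a b : M, μ (a * b * a⁻¹ * b⁻¹) = 1 := fun a b => by
      rw [map_mul, map_mul, map_mul, show μ a * μ b * μ a⁻¹ * μ b⁻¹ =
        μ (a * a⁻¹) * μ (b * b⁻¹) by rw [map_mul, map_mul]; ring, mul_inv_cancel,
        mul_inv_cancel, map_one, one_mul]
    rw [show v = W * Z * W⁻¹ * Z⁻¹ * (W' * Z' * W'⁻¹ * Z'⁻¹) from Subtype.ext h, map_mul, hc, hc,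
      one_mul]
  obtain ⟨-, -, -, -, -, -, h4, h5, q4, q5⟩ := lam_gens
  let G4 : M := ⟨g4, mem_Mset.1 h4⟩
  let G5 : M := ⟨g5, mem_Mset.1 h5⟩
  have key : ∀ (g : M), g * g = 1 → ∃ s : Bool, μ g = ((if s then 1 else -1 : ℤ) : ℂ) := by
    intro g hg
    rcases sq_eq_one_iff.1 (show μ g ^ 2 = 1 by rw [sq, ← map_mul, hg, map_one]) with h | h
    · exact ⟨true, by simp [h]⟩
    · exact ⟨false, by simp [h]⟩
  obtain ⟨s, hs⟩ := key G4 (Subtype.ext q4)
  obtain ⟨t, ht⟩ := key G5 (Subtype.ext q5)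
  obtain ⟨o, ho4, ho5⟩ := nu_gens s t
  let ν : M →* ℂ :=
    { toFun := fun v => (nu o v : ℂ)
      map_one' := by simp [nu_one]
      map_mul' := fun a b => by simp [nu_mul] }
  refine ⟨o, fun v => ?_⟩
  obtain ⟨a, b, hab⟩ := coset_cases v (mem_Mset.2 v.2)
  let W : M := G4 ^ a.val * G5 ^ b.val
  have hW : μ W = ν W := by
    simp only [W, map_mul, map_pow, hs, ht]
    show _ = (nu o g4 : ℂ) ^ a.val * (nu o g5 : ℂ) ^ b.val
    rw [ho4, ho5]
  have h1 : μ v * μ W = 1 := by rw [← map_mul]; exact hk (v * W) hab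
  have h2 : ν v * ν W = 1 := by
    rw [← map_mul]
    exact (congrArg (fun z : ℤ => (z : ℂ)) (nu_Tset o _ hab)).trans Int.cast_one
  have hne : ν W ≠ 0 := fun h => by rw [h, mul_zero] at h2; exact zero_ne_one h2
  exact mul_right_cancel₀ hne ((by rw [← hW]; exact h1 : μ v * ν W = 1).trans h2.symm)

/-! ### The algebra -/

theorem single_alg {C lp lj lk vp vj vk : ℂ} (hj : lj ≠ 0) (hj1 : lj + 1 ≠ 0) (hk : lk ≠ 0)
    (hC : C ≠ 0) (eAp : (vp - lp) ^ 2 = 0) (eBp : (vj * lk - vk * lj) ^ 2 = 0)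
    (eQj : ((1 + vj) * (lk + lp) - (vk + vp) * (1 + lj)) ^ 2 = 0)
    (eQk : ((1 + vk) * (lj + lp) - (vj + vp) * (1 + lk)) ^ 2 = 0)
    (eAj : (vj - lj) ^ 2 = C * (lj * (1 + lj))) (eAk : (vk - lk) ^ 2 = C * (lk * (1 + lk))) :
    lp = 1 ∧ lj = lk := by
  have a1 : vp = lp := sub_eq_zero.1 (eq_zero_of_pow_eq_zero eAp)
  have a2 := eq_zero_of_pow_eq_zero eBp
  have a3 := eq_zero_of_pow_eq_zero eQj
  have a4 := eq_zero_of_pow_eq_zero eQk
  subst a1
  have hne : lj - vj ≠ 0 := by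
    intro h
    rw [show vj - lj = -(lj - vj) by ring, h, neg_zero, zero_pow two_ne_zero, eq_comm,
      mul_eq_zero] at eAj
    rcases eAj with h' | h'
    · exact hC h'
    · exact mul_ne_zero hj (by rwa [add_comm]) h'
  have e1 : lk = lj * vp := by
    have h : (lj - vj) * (lk - lj * vp) = 0 := by
      linear_combination lj * a3 + (-1 - lj) * a2
    exact sub_eq_zero.1 ((mul_eq_zero.1 h).resolve_left hne)
  have hne' : lk - vk ≠ 0 := by
    intro h
    have h' : vk = lk := (sub_eq_zero.1 h).symm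
    subst h'
    exact hne (sub_eq_zero.1 ((mul_eq_zero.1 (show (lj - vj) * vk = 0 by
      linear_combination -a2)).resolve_right hk) ▸ sub_self _)
  have e2 : lj = lk * vp := by
    have h : (lk - vk) * (lj - lk * vp) = 0 := by
      linear_combination lk * a4 - (-1 - lk) * a2
    exact sub_eq_zero.1 ((mul_eq_zero.1 h).resolve_left hne')
  have e3 : (vp - 1) * (vp + 1) = 0 := by
    have h : lk * ((vp - 1) * (vp + 1)) = 0 := by linear_combination -e1 - vp * e2
    exact (mul_eq_zero.1 h).resolve_left hk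
  rcases mul_eq_zero.1 e3 with h | h
  · have : vp = 1 := sub_eq_zero.1 h
    exact ⟨this, by rw [e1, this, mul_one]⟩
  · exfalso
    have hv : vp = -1 := eq_neg_of_add_eq_zero_left h
    have ek : lk = -lj := by rw [e1, hv]; ring
    subst ek
    have hvk : vk = -vj := by
      have h' : lj * (vk + vj) = 0 := by linear_combination -a2
      exact eq_neg_of_add_eq_zero_left ((mul_eq_zero.1 h').resolve_left hj)
    subst hvk
    have h' : C * lj * 2 = 0 := by linear_combination eAk - eAj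
    exact two_ne_zero ((mul_eq_zero.1 h').resolve_left (mul_ne_zero hC hj))

theorem pair_alg {C l vp vj vk : ℂ} (hl : l ≠ 0) (hC : C ≠ 0)
    (eBp : (vj * l - vk * l) ^ 2 = 0)
    (eQp : ((1 + vp) * (l + l) - (vj + vk) * (1 + 1)) ^ 2 = 0)
    (eAp : (vp - 1) ^ 2 = 4 * C * (1 * (1 + 1))) (eAj : (vj - l) ^ 2 = C * (l * (1 + l))) :
    l = 1 := by
  have a1 : (vj - vk) * l = 0 := by linear_combination eq_zero_of_pow_eq_zero eBp
  have a2 : vj = vk := sub_eq_zero.1 ((mul_eq_zero.1 a1).resolve_right hl)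
  subst a2
  have a3 := eq_zero_of_pow_eq_zero eQp
  have h : C * l * (l - 1) = 0 := by
    linear_combination eAj - l ^ 2 * eAp / 4 + (l * (vp - 1) / 2 + (vj - l)) * a3 / 4
  exact sub_eq_zero.1 ((mul_eq_zero.1 h).resolve_left (mul_ne_zero hC hl))

theorem eq_of_triple {C li lj vi vj : ℂ} (hi : li ≠ 0) (hj : lj ≠ 0) (hC : C ≠ 0)
    (eB : (vi * lj - vj * li) ^ 2 = 0) (eAi : (vi - li) ^ 2 = C * (li * (1 + li)))
    (eAj : (vj - lj) ^ 2 = C * (lj * (1 + lj))) : li = lj := by
  have a := eq_zero_of_pow_eq_zero eB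
  have h : C * li * lj * (lj - li) = 0 := by
    linear_combination li ^ 2 * eAj - lj ^ 2 * eAi +
      ((vi - li) * lj + (vj - lj) * li) * a
  exact (sub_eq_zero.1 ((mul_eq_zero.1 h).resolve_left
    (mul_ne_zero (mul_ne_zero hC hi) hj))).symm

theorem triple_alg {C l v : ℂ} (hl : l ≠ 0) (hl1 : 1 + l ≠ 0) (hC : C ≠ 0)
    (eA : (v - l) ^ 2 = C * (l * (1 + l)))
    (eQ : ((1 + v) * (l + l) - (v + v) * (1 + l)) ^ 2 =
      C / 2 * ((1 + l) * (l + l) * (1 + l + (l + l)))) : l = 1 := by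
  have h : C * l * (1 + l) * 3 * (l - 1) = 0 := by linear_combination 4 * eA - eQ
  exact sub_eq_zero.1 ((mul_eq_zero.1 h).resolve_left
    (mul_ne_zero (mul_ne_zero (mul_ne_zero hC hl) hl1) (by norm_num)))

/-! ### Functionals -/

/-- The pairing of an integral vector with complex values. -/
def ev {ι : Type*} [Fintype ι] (w : ι → ℂ) (f : ι → ℤ) : ℂ := ∑ x, (f x : ℂ) * w x

section Ev

variable {ι : Type*} [Fintype ι] (w : ι → ℂ) (f g : ι → ℤ)

theorem ev_add : ev w (f + g) = ev w f + ev w g := by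
  simp [ev, add_mul, Finset.sum_add_distrib]

theorem ev_sub : ev w (f - g) = ev w f - ev w g := by
  simp [ev, sub_mul, Finset.sum_sub_distrib]

theorem ev_neg : ev w (-f) = -ev w f := by simp [ev]

theorem ev_single [DecidableEq ι] (x : ι) (c : ℤ) : ev w (Pi.single x c) = c * w x := by
  rw [ev, Finset.sum_eq_single x (fun y _ hy => by simp [hy]) (by simp)]
  simp

theorem ev_unit [DecidableEq ι] (val deg : ι → ℂ) (hdeg : ∀ x, deg x ≠ 0) {u : ι → ℤ}
    (hu : u ⬝ᵥ u = 1) : ev deg u ≠ 0 ∧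
      ev (fun x => val x ^ 2 / deg x) u = ev val u ^ 2 / ev deg u := by
  obtain ⟨x, ε, hε, rfl⟩ := exists_single hu
  have := hdeg x
  simp only [ev_single]
  rcases hε with rfl | rfl
  · simp [this]
  · simp [this, div_neg, neg_div]

end Ev

/-! ### The configuration -/

universe u

variable {G : Type u} [Group G] {H T : Subgroup G}

/-- The image of an element in the model. -/
def im (e : H ≃* M) (h : H) : Vec := (e h : Vec)

/-- The function on `H` attached to a function on the model. -/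
noncomputable def th (e : H ≃* M) (f : Vec → ℤ) : H → ℂ := fun h => (f (im e h) : ℂ)

theorem im_mul (e : H ≃* M) (a b : H) : im e (a * b) = im e a * im e b := by
  simp [im]

theorem im_one (e : H ≃* M) : im e 1 = 1 := by simp [im]

theorem im_inj (e : H ≃* M) {a b : H} (h : im e a = im e b) : a = b :=
  e.injective (Subtype.ext h)

theorem im_mem (e : H ≃* M) (a : H) : im e a ∈ Mset := mem_Mset.2 (e a).2

theorem mem_T_iff [Finite G] (e : H ≃* M) (hTH : T ≤ H) (hT : Nat.card T = 27) (h : H) :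
    (h : G) ∈ T ↔ im e h ∈ Tset := by
  haveI : Fintype T := Fintype.ofFinite T
  let f : T → Vec := fun t => im e ⟨t, hTH t.2⟩
  have hinj : Function.Injective f := fun a b hab =>
    Subtype.ext (congrArg (fun x : H => (x : G)) (im_inj e hab))
  have hsub : Finset.univ.image f ⊆ Tset := by
    intro v hv
    obtain ⟨t, -, rfl⟩ := Finset.mem_image.1 hv
    refine pow27_Tset _ (im_mem e _) ?_
    have h0 : (t : G) ^ 27 = 1 := by
      rw [← hT]
      exact_mod_cast congrArg (fun x : T => (x : G)) (pow_card_eq_one' (x := t))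
    have h1 : (⟨(t : G), hTH t.2⟩ : H) ^ 27 = 1 := Subtype.ext (by simpa using h0)
    have h2 := congrArg (fun x : H => im e x) h1
    simp only [im, map_pow, map_one, SubmonoidClass.coe_pow, OneMemClass.coe_one] at h2
    exact h2
  have heq : Finset.univ.image f = Tset := by
    refine Finset.eq_of_subset_of_card_le hsub ?_
    rw [card_Tset, Finset.card_image_of_injective _ hinj, Finset.card_univ,
      ← Nat.card_eq_fintype_card, hT]
  refine ⟨fun hh => heq ▸ Finset.mem_image.2 ⟨⟨h, hh⟩, Finset.mem_univ _, rfl⟩, fun hh => ?_⟩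
  obtain ⟨t, -, ht⟩ := Finset.mem_image.1 (heq.symm ▸ hh)
  rw [← im_inj e (a := ⟨t, hTH t.2⟩) (b := h) ht]
  exact t.2

theorem sum_th [Fintype H] (e : H ≃* M) (F : Vec → ℂ) : ∑ h : H, F (im e h) = ∑ v ∈ Mset, F v := by
  letI : Fintype M := Fintype.ofFinite M
  rw [← sum_M F]
  exact Fintype.sum_equiv e.toEquiv _ _ fun h => rfl

theorem classInner_th [Fintype H] (e : H ≃* M) (f g : Vec → ℤ) :
    classInner (th e f) (th e g) = (108 : ℂ)⁻¹ * ((ip f g : ℤ) : ℂ) := by
  rw [classInner, show Nat.card H = 108 by rw [Nat.card_congr e.toEquiv, card_M], ip,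
    Int.cast_sum]
  simp only [th, map_intCast]
  rw [← sum_th e fun v => ((f v * g v : ℤ) : ℂ)]
  simp [im]

/-- The special elements of `H`. -/
def Supp (h : H) : Prop := h * h ≠ 1

theorem comm_T [Finite G] (e : H ≃* M) (hTH : T ≤ H) (hT : Nat.card T = 27) :
    ∀ a ∈ T, ∀ b ∈ T, a * b = b * a := fun a ha b hb => by
  have memT := mem_T_iff e hTH hT
  have h1 := Tset_comm _ ((memT ⟨a, hTH ha⟩).1 ha) _ ((memT ⟨b, hTH hb⟩).1 hb)
  rw [← im_mul, ← im_mul] at h1
  exact congrArg Subtype.val (im_inj e h1)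

theorem cube_T [Finite G] (e : H ≃* M) (hTH : T ≤ H) (hT : Nat.card T = 27) :
    ∀ a ∈ T, a * a * a = 1 := fun a ha => by
  have h1 := (Finset.mem_filter.1 ((mem_T_iff e hTH hT ⟨a, hTH ha⟩).1 ha)).2
  rw [← im_mul, ← im_mul, ← im_one e] at h1
  exact congrArg Subtype.val (im_inj e h1)

/-- The special elements form a trivial intersection set and are inverted only inside `H`. -/
theorem special_ti [Finite G] (e : H ≃* M) (hTH : T ≤ H) (hT : Nat.card T = 27)
    (hN : Subgroup.normalizer (T : Set G) = H)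
    (hC : ∀ t ∈ T, t ≠ 1 → Subgroup.centralizer ({t} : Set G) ≤ H) :
    (∀ x y : H, Supp x → Supp y → ∀ g : G, g * x * g⁻¹ = y → g ∈ H) ∧
      (∀ (a : G) (x : H), Supp x → a * a = 1 → a * x * (a * x) = 1 → a ∈ H) := by
  have memT := mem_T_iff e hTH hT
  have Tcomm := comm_T e hTH hT
  have Tcube := cube_T e hTH hT
  -- conjugating a nontrivial element of `T` into `T`
  have conjH : ∀ t ∈ T, t ≠ 1 → ∀ g : G, g * t * g⁻¹ ∈ T → g ∈ H := by
    intro t ht ht1 g hg
    rw [← hN]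
    haveI : Finite (T : Set G) := Subtype.finite
    refine Subgroup.mem_normalizer_fintype fun n hn => ?_
    have hne : g * t * g⁻¹ ≠ 1 := fun h => ht1 (by simpa using h)
    have hm : g * n * g⁻¹ ∈ H := hC _ hg hne (Subgroup.mem_centralizer_singleton_iff.2 (by
      rw [show g * n * g⁻¹ * (g * t * g⁻¹) = g * (n * t) * g⁻¹ by group,
        show g * t * g⁻¹ * (g * n * g⁻¹) = g * (t * n) * g⁻¹ by group, Tcomm n hn t ht]))
    have h3 : im e ⟨g * n * g⁻¹, hm⟩ ∈ Tset := by
      refine Finset.mem_filter.2 ⟨im_mem e _, ?_⟩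
      rw [← im_mul, ← im_mul, ← im_one e]
      congr 1
      refine Subtype.ext ?_
      show g * n * g⁻¹ * (g * n * g⁻¹) * (g * n * g⁻¹) = 1
      rw [show g * n * g⁻¹ * (g * n * g⁻¹) * (g * n * g⁻¹) = g * (n * n * n) * g⁻¹ by group,
        Tcube n hn]
      group
    exact (memT ⟨_, hm⟩).2 h3
  let supp : H → Prop := Supp
  have sqT : ∀ x : H, ((x : G) * x) ∈ T := fun x => (memT (x * x)).2 (by
    rw [im_mul]; exact sq_mem_Tset _ (im_mem e x))
  have sqne : ∀ x : H, supp x → (x : G) * x ≠ 1 := fun x hx h => hx (Subtype.ext h)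
  have hTI : ∀ x y : H, supp x → supp y → ∀ g : G, g * x * g⁻¹ = y → g ∈ H := by
    intro x y hx _ g hg
    refine conjH _ (sqT x) (sqne x hx) g ?_
    rw [show g * ((x : G) * x) * g⁻¹ = g * x * g⁻¹ * (g * x * g⁻¹) by group, hg]
    exact sqT y
  have hinv : ∀ (a : G) (x : H), supp x → a * a = 1 → a * x * (a * x) = 1 → a ∈ H := by
    intro a x hx h1 h2
    refine conjH _ (sqT x) (sqne x hx) a ?_
    have h3 : a * x * a⁻¹ = (x : G)⁻¹ := by
      rw [show a⁻¹ = a from inv_eq_of_mul_eq_one_right h1]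
      exact eq_inv_of_mul_eq_one_left (by rw [mul_assoc, mul_assoc, ← mul_assoc]; exact h2)
    rw [show a * ((x : G) * x) * a⁻¹ = a * x * a⁻¹ * (a * x * a⁻¹) by group, h3,
      ← Subgroup.coe_inv]
    exact sqT x⁻¹
  exact ⟨hTI, hinv⟩

/-- The group-theoretic conclusion from two linear characters. -/
theorem eq_top_of_homs [Finite G] (e : H ≃* M) (hTH : T ≤ H) (hT : Nat.card T = 27)
    (hN : Subgroup.normalizer (T : Set G) = H)
    (hC : ∀ t ∈ T, t ≠ 1 → Subgroup.centralizer ({t} : Set G) ≤ H)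
    (φ0 φ1 : G →* ℂˣ) (hφ0 : ∀ h : H, (φ0 h : ℂ) = (lam 0 (im e h) : ℂ))
    (hφ1 : ∀ h : H, (φ1 h : ℂ) = (lam 1 (im e h) : ℂ)) : H = ⊤ := by
  classical
  have memT := mem_T_iff e hTH hT
  have Tcomm := comm_T e hTH hT
  have Tcube := cube_T e hTH hT
  let N : Subgroup G := φ0.ker ⊓ φ1.ker
  haveI : N.Normal := by infer_instance
  have hNH : ∀ g ∈ N, g ∈ H → g ∈ T := by
    intro g hgN hgH
    refine (memT ⟨g, hgH⟩).2 (lam01_Tset _ (im_mem e _) ?_ ?_)
    · have h := hφ0 ⟨g, hgH⟩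
      rw [show φ0 g = 1 from hgN.1, Units.val_one] at h
      exact_mod_cast h.symm
    · have h := hφ1 ⟨g, hgH⟩
      rw [show φ1 g = 1 from hgN.2, Units.val_one] at h
      exact_mod_cast h.symm
  have hTN : T ≤ N := by
    intro t ht
    have h1 := (mem_Tset_iff _ (im_mem e ⟨t, hTH ht⟩)).1 ((memT ⟨t, hTH ht⟩).1 ht)
    refine ⟨Units.ext ?_, Units.ext ?_⟩
    · rw [show ((φ0 t : ℂˣ) : ℂ) = _ from hφ0 ⟨t, hTH ht⟩, h1, Int.cast_one, Units.val_one]
    · rw [show ((φ1 t : ℂˣ) : ℂ) = _ from hφ1 ⟨t, hTH ht⟩, h1, Int.cast_one, Units.val_one]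
  -- `T` is a Sylow subgroup of `N`
  haveI : Fact (Nat.Prime 3) := ⟨Nat.prime_three⟩
  have hT' : IsPGroup 3 (T.subgroupOf N) :=
    IsPGroup.of_card (n := 3) (by rw [Nat.card_congr (Subgroup.subgroupOfEquivOfLe hTN).toEquiv, hT]
                                  rfl)
  obtain ⟨Q, hQ⟩ := hT'.exists_le_sylow
  have hnorm : ∀ g : N, g ∈ Subgroup.normalizer ((T.subgroupOf N : Subgroup N) : Set N) →
      g ∈ T.subgroupOf N := by
    intro g hg
    refine hNH _ g.2 ?_
    rw [← hN]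
    haveI : Finite (T : Set G) := Subtype.finite
    refine Subgroup.mem_normalizer_fintype fun t ht => ?_
    exact (Subgroup.mem_normalizer_iff.1 hg ⟨t, hTN ht⟩).1 ht
  have hQT : (Q : Subgroup N) = T.subgroupOf N := by
    refine le_antisymm ?_ hQ
    by_contra hle
    haveI : Group.IsNilpotent (Q : Subgroup N) := Q.isPGroup'.isNilpotent
    have hlt : (T.subgroupOf N).subgroupOf (Q : Subgroup N) < ⊤ := by
      rw [lt_top_iff_ne_top]
      exact fun h => hle (Subgroup.subgroupOf_eq_top.1 h)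
    obtain ⟨x, hx, hx'⟩ := SetLike.exists_of_lt (Group.normalizerCondition_of_isNilpotent _ hlt)
    refine hx' (hnorm _ ?_)
    haveI : Finite ((T.subgroupOf N : Subgroup N) : Set N) := Subtype.finite
    refine Subgroup.mem_normalizer_fintype fun n hn => ?_
    exact (Subgroup.mem_normalizer_iff.1 hx ⟨n, hQ hn⟩).1 hn
  have hP : Subgroup.normalizer ((Q : Subgroup N) : Set N) ≤
      Subgroup.centralizer ((Q : Subgroup N) : Set N) := by
    rw [hQT]
    intro g hg
    refine Subgroup.mem_centralizer_iff.2 fun n hn => Subtype.ext ?_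
    exact Tcomm _ hn _ (hnorm g hg)
  let K : Subgroup N := (MonoidHom.transferSylow Q hP).ker
  have hK3 : ¬ 3 ∣ Nat.card K := MonoidHom.not_dvd_card_ker_transferSylow Q hP
  have hKQ : K.IsComplement' (Q : Subgroup N) := MonoidHom.ker_transferSylow_isComplement' Q hP
  let X : Subgroup G := K.map N.subtype
  have hX3 : ¬ 3 ∣ Nat.card X := by
    rw [Nat.card_congr (K.equivMapOfInjective _ N.subtype_injective).symm.toEquiv]; exact hK3
  have hAX : T ≤ Subgroup.normalizer (X : Set G) := by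
    intro t ht
    haveI : Finite (X : Set G) := Subtype.finite
    refine Subgroup.mem_normalizer_fintype fun x hx => ?_
    obtain ⟨k, hk, rfl⟩ := Subgroup.mem_map.1 hx
    refine Subgroup.mem_map.2 ⟨⟨t, hTN ht⟩ * k * ⟨t, hTN ht⟩⁻¹, ?_, rfl⟩
    exact (inferInstance : K.Normal).conj_mem k hk _
  have hXbot : X = ⊥ := by
    have hel : IsElementaryAbelian 3 T :=
      ⟨⟨⟨fun a b => Subtype.ext (Tcomm _ a.2 _ b.2)⟩⟩, fun a ha => by
        rw [pow_three, ← mul_assoc]; exact Tcube a ha⟩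
    have hT1 : T ≠ ⊥ := fun h => by rw [h, Subgroup.card_bot] at hT; omega
    have hle := CfsgLib.Coprime39.eq_hyperCent hel hT1
      ((Nat.prime_three.coprime_iff_not_dvd.mpr hX3).symm) hAX
    rw [eq_bot_iff]
    refine hle.ge.trans (iSup_le fun B => ?_)
    intro g hg
    obtain ⟨b, hbB, hb1⟩ : ∃ b ∈ (B : Subgroup G), b ≠ 1 := by
      by_contra! hall
      have hB : (B : Subgroup G) = ⊥ := (Subgroup.eq_bot_iff_forall _).2 hall
      have := B.2.2
      rw [hB, Subgroup.relIndex_bot_left, hT] at this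
      omega
    have hgH : g ∈ H := hC b (B.2.1 hbB) hb1
      (Subgroup.mem_centralizer_singleton_iff.2 ((Subgroup.mem_centralizer_iff.1 hg.2 b hbB).symm))
    obtain ⟨k, hk, rfl⟩ := Subgroup.mem_map.1 hg.1
    have h1 : k ∈ (Q : Subgroup N) := by rw [hQT]; exact hNH _ k.2 hgH
    have h2 := Subgroup.disjoint_def.1 hKQ.disjoint hk h1
    rw [Subgroup.mem_bot, h2, map_one]
  have hK : K = ⊥ := (Subgroup.map_eq_bot_iff_of_injective _ N.subtype_injective).1 hXbot
  have hQtop : (Q : Subgroup N) = ⊤ := by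
    have := hKQ.sup_eq_top
    rwa [hK, bot_sup_eq] at this
  have hNT : N = T := le_antisymm (fun g hg => by
    have h : (⟨g, hg⟩ : N) ∈ T.subgroupOf N := by rw [← hQT, hQtop]; exact Subgroup.mem_top _
    exact h) hTN
  have hTn : T.Normal := hNT ▸ (inferInstance : N.Normal)
  rw [← hN]
  exact Subgroup.normalizer_eq_top_iff.2 hTn

theorem algA {v l X : ℂ} (hl : l ≠ 0) (hl1 : 1 + l ≠ 0)
    (h : -1 + (1 + v) ^ 2 / (1 + l) - v ^ 2 / l = X) :
    (v - l) ^ 2 = -X * (l * (1 + l)) := by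
  rw [← h]; field_simp; ring

theorem algB {a b c d X : ℂ} (hc : c ≠ 0) (hd : d ≠ 0) (hcd : c + d ≠ 0)
    (h : (a + b) ^ 2 / (c + d) - a ^ 2 / c - b ^ 2 / d = X) :
    (a * d - b * c) ^ 2 = -X * (c * d * (c + d)) := by
  rw [← h]; field_simp; ring

/-- The identities force degree one. -/
theorem all_one (l : Fin 3 → ℂ) (v : Fin 3 → Fin 3 → ℂ) (C : Fin 3 → ℂ) (hC0 : ∀ p, C p ≠ 0)
    (S : Fin 3 → Finset (Fin 3)) (hrefl : ∀ p, p ∈ S p)
    (htr : ∀ p q, q ∈ S p → S q = S p)
    (key : ∀ (p i j k : Fin 3), j = i + 1 → k = i + 2 →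
      l i ≠ 0 ∧ 1 + l i ≠ 0 ∧
      (v p i - l i) ^ 2 = C p * (-(rI (S p) (fA i) : ℂ) / 162) * (l i * (1 + l i)) ∧
      (v p j * l k - v p k * l j) ^ 2 =
        C p * (-(rI (S p) (fB i) : ℂ) / 162) * (l j * l k * (l j + l k)) ∧
      ((1 + v p i) * (l j + l k) - (v p j + v p k) * (1 + l i)) ^ 2 =
        C p * (-(rI (S p) (fQ i) : ℂ) / 162) *
          ((1 + l i) * (l j + l k) * (1 + l i + (l j + l k)))) :
    ∀ i, l i = 1 := by
  have single : ∀ p, S p = {p} → l p = 1 ∧ l (p + 1) = l (p + 2) := by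
    intro p hp
    obtain ⟨r1, r2, r3, r4⟩ := rI_single p
    obtain ⟨hne12, hj, hk⟩ : (p + 1 ≠ p ∧ p + 2 ≠ p) ∧ p + 2 = p + 1 + 1 ∧ p + 1 = p + 2 + 2 :=
      (by decide : ∀ q : Fin 3, (q + 1 ≠ q ∧ q + 2 ≠ q) ∧ q + 2 = q + 1 + 1 ∧
        q + 1 = q + 2 + 2) p
    obtain ⟨-, -, eAp, eBp, -⟩ := key p p (p + 1) (p + 2) rfl rfl
    obtain ⟨n1, n1', eAj, -, eQj⟩ := key p (p + 1) (p + 2) p hj
      ((by decide : ∀ q : Fin 3, q = q + 1 + 2) p)
    obtain ⟨n2, -, eAk, -, eQk⟩ := key p (p + 2) p (p + 1)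
      ((by decide : ∀ q : Fin 3, q = q + 2 + 1) p) hk
    rw [hp] at eAp eBp eAj eQj eAk eQk
    rw [r1] at eAp
    rw [r2] at eBp
    rw [(r4 _ hne12.1).1] at eAj
    rw [(r4 _ hne12.1).2.2] at eQj
    rw [(r4 _ hne12.2).1] at eAk
    rw [(r4 _ hne12.2).2.2] at eQk
    push_cast at eAp eBp eAj eQj eAk eQk
    refine single_alg n1 (by rwa [add_comm]) n2 (hC0 p) (vp := v p p) (vj := v p (p + 1))
      (vk := v p (p + 2)) ?_ ?_ ?_ ?_ ?_ ?_
    · rw [eAp]; ring
    · rw [eBp]; ring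
    · rw [eQj]; ring
    · rw [show ∀ a b c : ℂ, a * (b + c) = a * (c + b) from fun a b c => by ring,
        add_comm (v p (p + 1)), eQk]
      ring
    · rw [eAj]; ring
    · rw [eAk]; ring
  intro i
  rcases (by decide : ∀ (s : Finset (Fin 3)) (i : Fin 3), i ∈ s → s = {i} ∨ s = Finset.univ ∨
    ∃ q, q ≠ i ∧ s = Finset.univ.erase q) (S i) i (hrefl i) with h | h | ⟨q, hqi, hq⟩
  · exact (single i h).1
  · have hl : ∀ a : Fin 3, (v i a - l a) ^ 2 = 4 * C i * (l a * (1 + l a)) ∧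
        (v i (a + 1) * l (a + 2) - v i (a + 2) * l (a + 1)) ^ 2 = 0 ∧ l a ≠ 0 ∧
        1 + l a ≠ 0 := fun a => by
      obtain ⟨n, n', eA, eB, -⟩ := key i a (a + 1) (a + 2) rfl rfl
      rw [h, (rI_all a).1] at eA
      rw [h, (rI_all a).2.1] at eB
      push_cast at eA eB
      exact ⟨by rw [eA]; ring, by rw [eB]; ring, n, n'⟩
    have heq : ∀ a : Fin 3, l (a + 1) = l (a + 2) := fun a =>
      eq_of_triple (hl _).2.2.1 (hl _).2.2.1 (mul_ne_zero (by norm_num : (4 : ℂ) ≠ 0) (hC0 i)) (hl a).2.1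
        (hl _).1 (hl _).1
    have h0 : l (i + 2) = l i := by
      have h' := heq (i + 1)
      rwa [(by decide : ∀ q : Fin 3, q + 1 + 1 = q + 2 ∧ q + 1 + 2 = q) i |>.1,
        (by decide : ∀ q : Fin 3, q + 1 + 1 = q + 2 ∧ q + 1 + 2 = q) i |>.2] at h'
    have h1 : l (i + 1) = l i := (heq i).trans h0
    have hv : ∀ a, l a = l i → v i a = v i i := by
      intro a ha
      rcases (by decide : ∀ a i : Fin 3, a = i ∨ (a = i + 1) ∨ (a = i + 2)) a i with
        rfl | rfl | rfl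
      · rfl
      · have h' := eq_zero_of_pow_eq_zero (hl (i + 2)).2.1
        rw [(by decide : ∀ q : Fin 3, q + 2 + 1 = q ∧ q + 2 + 2 = q + 1) i |>.1,
          (by decide : ∀ q : Fin 3, q + 2 + 1 = q ∧ q + 2 + 2 = q + 1) i |>.2, ha,
          ← sub_mul] at h'
        exact (sub_eq_zero.1 ((mul_eq_zero.1 h').resolve_right (hl i).2.2.1)).symm
      · have h' := eq_zero_of_pow_eq_zero (hl (i + 1)).2.1
        rw [(by decide : ∀ q : Fin 3, q + 1 + 1 = q + 2 ∧ q + 1 + 2 = q) i |>.1,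
          (by decide : ∀ q : Fin 3, q + 1 + 1 = q + 2 ∧ q + 1 + 2 = q) i |>.2, ha,
          ← sub_mul] at h'
        exact sub_eq_zero.1 ((mul_eq_zero.1 h').resolve_right (hl i).2.2.1)
    obtain ⟨-, -, -, -, eQ⟩ := key i i (i + 1) (i + 2) rfl rfl
    rw [h, (rI_all i).2.2, hv _ h1, hv _ h0, h1, h0] at eQ
    push_cast at eQ
    refine triple_alg (hl i).2.2.1 (hl i).2.2.2 (mul_ne_zero (by norm_num : (4 : ℂ) ≠ 0) (hC0 i)) (hl i).1 ?_
    rw [eQ]; ring
  · have hSq : S q = {q} := by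
      refine Finset.eq_singleton_iff_unique_mem.2 ⟨hrefl q, fun r hr => ?_⟩
      by_contra hrq
      have hr2 : r ∈ S i := by rw [hq]; exact Finset.mem_erase.2 ⟨hrq, Finset.mem_univ _⟩
      have := hrefl q
      rw [← htr q r hr, htr i r hr2, hq] at this
      exact (Finset.mem_erase.1 this).1 rfl
    obtain ⟨hlq, hljk⟩ := single q hSq
    obtain ⟨r1, r2, r3, r4⟩ := rI_pair q
    obtain ⟨-, -, eAp, eBp, eQp⟩ := key i q (q + 1) (q + 2) rfl rfl
    obtain ⟨nj, -, eAj, -, -⟩ := key i (q + 1) (q + 1 + 1) (q + 1 + 2) rfl rfl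
    rw [hq] at eAp eBp eQp eAj
    rw [r1, hlq] at eAp
    rw [r2, ← hljk] at eBp
    rw [r3, hlq, ← hljk] at eQp
    rw [r4 _ ((by decide : ∀ a : Fin 3, a + 1 ≠ a) q)] at eAj
    push_cast at eAp eBp eQp eAj
    have h1 : l (q + 1) = 1 := pair_alg nj (hC0 i) (vp := v i q) (vj := v i (q + 1))
      (vk := v i (q + 2)) (by rw [eBp]; ring) (by rw [eQp]; ring) (by rw [eAp]; ring)
      (by rw [eAj]; ring)
    rcases (by decide : ∀ a b : Fin 3, a ≠ b → b = a + 1 ∨ b = a + 2) q i hqi with rfl | rfl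
    · exact h1
    · rw [← hljk]; exact h1

section Setup

variable [Fintype G] [Fintype H] (e : H ≃* M)
  (hTI : ∀ x y : H, Supp x → Supp y → ∀ g : G, g * x * g⁻¹ = y → g ∈ H)

omit [Fintype G] [Fintype H] in
theorem th_supp (f : Vec → ℤ) (hf : ∀ v ∈ Mset, v * v = 1 → f v = 0) (h : H) (hh : ¬ Supp h) :
    th e f h = 0 := by
  have h' : h * h = 1 := not_not.1 hh
  show ((f (im e h) : ℤ) : ℂ) = 0
  rw [hf _ (im_mem e h) (by rw [← im_mul, h', im_one]), Int.cast_zero]

omit [Fintype G] [Fintype H] in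
theorem isGeneralized_th {f : Vec → ℤ} (hf : IsGeneralizedCharacter M (cst f)) :
    IsGeneralizedCharacter H (th e f) := by
  obtain ⟨χ, ψ, hχ, hψ, he⟩ := hf
  exact ⟨fun h => χ (e h), fun h => ψ (e h),
    CfsgLib.CharGalois.isCharacter_comp hχ e.toMonoidHom,
    CfsgLib.CharGalois.isCharacter_comp hψ e.toMonoidHom, funext fun h => congrFun he (e h)⟩

/-- `m` is the vector of multiplicities of the function induced from `f`. -/
def IsCoef (f : Vec → ℤ) (m : IrrCharacter G → ℤ) : Prop :=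
  ∀ χ : IrrCharacter G, classInner (indFun H (th e f)) (χ : G → ℂ) = m χ

theorem exists_coef {f : Vec → ℤ} (hf : IsGeneralizedCharacter M (cst f)) :
    ∃ m : IrrCharacter G → ℤ, IsCoef e f m := by
  choose m hm using (isGeneralizedCharacter_iff.1
    (CfsgLib.CharArtin.isGeneralizedCharacter_indFun H (isGeneralized_th e hf))).2
  exact ⟨m, hm⟩

variable {e}

theorem IsCoef.expand {f : Vec → ℤ} {m : IrrCharacter G → ℤ} (hm : IsCoef e f m) (g : G) :
    indFun H (th e f) g = ev (fun χ : IrrCharacter G => (χ : G → ℂ) g) m := by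
  conv_lhs => rw [classFunction_eq_sum (CfsgLib.Induction.isClassFunction_indFun H (th e f))]
  simp only [IsCoef] at hm
  simp [hm, ev]

include hTI in
theorem IsCoef.dot {f f' : Vec → ℤ} {m m' : IrrCharacter G → ℤ} (hm : IsCoef e f m)
    (hm' : IsCoef e f' m') (hf : ∀ v ∈ Mset, v * v = 1 → f v = 0)
    (hf' : ∀ v ∈ Mset, v * v = 1 → f' v = 0) (hg' : IsGeneralizedCharacter M (cst f')) :
    108 * (m ⬝ᵥ m') = ip f f' := by
  have h1 := CfsgLib.SpecialClasses.inner_ind H Supp (th e f) (th_supp e f hf) (th_supp e f' hf')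
    (isClassFunction_of_isGeneralizedCharacter (isGeneralized_th e hg')) hTI
  rw [classInner_th, classInner_eq_sum_mul (CfsgLib.Induction.isClassFunction_indFun H _)] at h1
  simp only [IsCoef] at hm hm'
  simp only [hm, hm', map_intCast] at h1
  have h2 : ((108 * (m ⬝ᵥ m') : ℤ) : ℂ) = ((ip f f' : ℤ) : ℂ) := by
    simp only [dotProduct, Int.cast_mul, Int.cast_sum, h1]
    norm_num
    ring
  exact_mod_cast h2

theorem IsCoef.lin {f : Vec → ℤ} {m : IrrCharacter G → ℤ} (hm : IsCoef e f m)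
    (x : IrrCharacter G) (o : Option (Fin 3))
    (hx : ∀ h : H, (x : G → ℂ) h = (nu o (im e h) : ℂ)) :
    108 * m x = ∑ v ∈ Mset, f v * nu o v := by
  have h1 := hm x
  rw [CfsgLib.Induction.classInner_indFun _ _ (irr_isClassFunction x), classInner,
    show Nat.card H = 108 by rw [Nat.card_congr e.toEquiv, card_M]] at h1
  simp only [hx, th, map_intCast] at h1
  rw [sum_th e fun v => (f v : ℂ) * (nu o v : ℂ)] at h1
  have h2 : ((108 * m x : ℤ) : ℂ) = ((∑ v ∈ Mset, f v * nu o v : ℤ) : ℂ) := by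
    push_cast
    rw [← h1]
    norm_num
    ring
  exact_mod_cast h2

theorem IsCoef.at_principal {f : Vec → ℤ} {m : IrrCharacter G → ℤ} (hm : IsCoef e f m) :
    108 * m (principalIrr G) = ∑ v ∈ Mset, f v := by
  rw [hm.lin (principalIrr G) none fun h => by simp [nu]]
  simp [nu]

theorem IsCoef.zero_at {f : Vec → ℤ} {m : IrrCharacter G → ℤ} (hm : IsCoef e f m)
    (hf : ∀ v ∈ Mset, v * v = 1 → f v = 0) {g : G} (hg : g * g = 1) :
    ev (fun χ : IrrCharacter G => (χ : G → ℂ) g) m = 0 := by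
  rw [← hm.expand g]
  exact CfsgLib.SpecialClasses.ind_apply_sq H Supp (th e f) (th_supp e f hf) (fun h hh => hh) hg

theorem IsCoef.class_eq [DecidableRel (IsConj : G → G → Prop)] {f : Vec → ℤ}
    {m : IrrCharacter G → ℤ} (hm : IsCoef e f m) (hf : ∀ v ∈ Mset, v * v = 1 → f v = 0)
    (hinv : ∀ (a : G) (x : H), Supp x → a * a = 1 → a * x * (a * x) = 1 → a ∈ H)
    {u : G} (hu : u * u = 1) (S : Finset (Fin 3))
    (hS : ∀ a : H, IsConj u (a : G) ↔
      im e a ≠ 1 ∧ im e a * im e a = 1 ∧ ∃ p ∈ S, cmp p (im e a) = 1) :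
    ev (fun χ : IrrCharacter G => (χ : G → ℂ) u ^ 2 / (χ : G → ℂ) 1) m =
      (Nat.card G : ℂ) / (108 * (Nat.card {x : G // IsConj u x} : ℂ) ^ 2) * (rI S f : ℂ) := by
  have hk : (Nat.card {x : G // IsConj u x} : ℂ) ≠ 0 := by
    haveI : Nonempty {x : G // IsConj u x} := ⟨⟨u, IsConj.refl u⟩⟩
    exact Nat.cast_ne_zero.2 Nat.card_pos.ne'
  have h1 := CfsgLib.SpecialClasses.sum_class_ind H Supp (th e f) (th_supp e f hf) hu hinv
  simp only [hm.expand] at h1
  simp only [ev] at h1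
  rw [Finset.sum_congr rfl fun a _ => Finset.sum_comm, Finset.sum_comm] at h1
  simp only [← Finset.mul_sum, CfsgLib.GL23.sum_class_product] at h1
  have h2 : ∑ a ∈ Finset.univ.filter (fun a : H => IsConj u (a : G)),
      ∑ b ∈ Finset.univ.filter (fun b : H => IsConj u (b : G)), th e f (a * b) =
        (rI S f : ℂ) := by
    simp only [Finset.sum_filter, hS, rI, Int.cast_sum, th]
    rw [← sum_th e]
    refine Finset.sum_congr rfl fun a _ => ?_
    split
    · rw [Int.cast_sum, ← sum_th e]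
      refine Finset.sum_congr rfl fun b _ => ?_
      split
      · rw [im_mul]
      · rw [Int.cast_zero]
    · rw [Int.cast_zero]
  rw [h2, show Nat.card H = 108 by rw [Nat.card_congr e.toEquiv, card_M]] at h1
  push_cast at h1
  rw [show (Nat.card G : ℂ) / (108 * (Nat.card {x : G // IsConj u x} : ℂ) ^ 2) * (rI S f : ℂ) =
    ((Nat.card {x : G // IsConj u x} : ℂ) ^ 2)⁻¹ *
      ((Nat.card G : ℂ) * (108 : ℂ)⁻¹ * (rI S f : ℂ)) by field_simp, ← h1, ev, Finset.mul_sum]
  refine Finset.sum_congr rfl fun χ _ => ?_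
  field_simp

end Setup

set_option maxHeartbeats 1000000 in
/-- The strongly embedded subgroup `3³ : 2²` is the whole group. -/
theorem eq_top [Finite G] (e : H ≃* M) (hTH : T ≤ H) (hT : Nat.card T = 27)
    (hN : Subgroup.normalizer (T : Set G) = H)
    (hC : ∀ t ∈ T, t ≠ 1 → Subgroup.centralizer ({t} : Set G) ≤ H) : H = ⊤ := by
  classical
  letI : Fintype G := Fintype.ofFinite G
  letI : Fintype H := Fintype.ofFinite H
  obtain ⟨hTI, hinv⟩ := special_ti e hTH hT hN hC
  choose mA hmA using fun i => exists_coef (G := G) e (isGeneralized_fA i)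
  choose mB hmB using fun i => exists_coef (G := G) e (isGeneralized_fB i)
  choose mQ hmQ using fun i => exists_coef (G := G) e (isGeneralized_fQ i)
  choose dd hd0 hd using fun χ : IrrCharacter G => irr_exists_degree χ.2
  let d : IrrCharacter G → ℤ := fun χ => (dd χ : ℤ)
  let P : IrrCharacter G := principalIrr G
  have vA := fun i v hv hs => (vanish i v hv hs).1
  have vB := fun i v hv hs => (vanish i v hv hs).2.1
  have vQ := fun i v hv hs => (vanish i v hv hs).2.2
  have hdegC : ∀ χ : IrrCharacter G, (χ : G → ℂ) 1 = (d χ : ℂ) := fun χ => by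
    rw [hd]; simp [d]
  have degZero : ∀ (f : Vec → ℤ) (m : IrrCharacter G → ℤ), IsCoef e f m →
      (∀ v ∈ Mset, v * v = 1 → f v = 0) → m ⬝ᵥ d = 0 := fun f m hm hf => by
    have h := hm.zero_at hf (mul_one 1)
    simp only [ev, hdegC] at h
    exact_mod_cast h
  have hdP : d P = 1 := by
    have h : ((d P : ℤ) : ℂ) = 1 := by rw [← hdegC]; simp [P]
    exact_mod_cast h
  have hom_of_linear : ∀ x : IrrCharacter G, d x = 1 →
      ∃ φ : G →* ℂˣ, (x : G → ℂ) = fun g => (φ g : ℂ) := fun x hx =>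
    CfsgLib.LinearExt.exists_unitsHom (isCharacter_of_irr x.2) (by rw [hdegC, hx, Int.cast_one])
  have res_of_linear : ∀ x : IrrCharacter G, d x = 1 →
      ∃ o, ∀ h : H, (x : G → ℂ) h = (nu o (im e h) : ℂ) := by
    intro x hx
    obtain ⟨φ, hφ⟩ := hom_of_linear x hx
    obtain ⟨o, ho⟩ := hom_cases
      (((Units.coeHom ℂ).comp (φ.comp H.subtype)).comp e.symm.toMonoidHom)
    refine ⟨o, fun h => ?_⟩
    rw [hφ]
    simpa [im] using ho (e h)
  have hlin : ∀ x, d x = 1 → ¬ ∀ i, mB i x = -1 := by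
    intro x hx h
    obtain ⟨o, ho⟩ := res_of_linear x hx
    refine hlin_table o fun i => ?_
    rw [← (hmB i).lin x o ho, h i]
    norm_num
  obtain ⟨L, Pp, Pm, R, hU⟩ := exists_units d P (fun x => by
      have := hd0 x; simp only [d]; omega) hdP mA mB mQ
    (fun i j => by
      have h := (hmA i).dot hTI (hmA j) (vA i) (vA j) (isGeneralized_fA j)
      rw [(gram i j).1] at h; split <;> simp_all <;> omega)
    (fun i j => by
      have h := (hmB i).dot hTI (hmB j) (vB i) (vB j) (isGeneralized_fB j)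
      rw [(gram i j).2.1] at h; split <;> simp_all <;> omega)
    (fun i j => by
      have h := (hmB i).dot hTI (hmA j) (vB i) (vA j) (isGeneralized_fA j)
      rw [(gram i j).2.2.1] at h; split <;> simp_all <;> omega)
    (fun i j => by
      have h := (hmQ i).dot hTI (hmA j) (vQ i) (vA j) (isGeneralized_fA j)
      rw [(gram i j).2.2.2.1] at h; split <;> simp_all <;> omega)
    (fun i j => by
      have h := (hmQ i).dot hTI (hmB j) (vQ i) (vB j) (isGeneralized_fB j)
      rw [(gram i j).2.2.2.2.1] at h; split <;> simp_all <;> omega)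
    (fun i => by
      have h := (hmQ i).dot hTI (hmQ i) (vQ i) (vQ i) (isGeneralized_fQ i)
      rw [(gram i i).2.2.2.2.2] at h; omega)
    (fun i => by have h := (hmA i).at_principal; rw [(sums i).1] at h; simp only [P]; omega)
    (fun i => by have h := (hmB i).at_principal; rw [(sums i).2.1] at h; simp only [P]; omega)
    (fun i => by have h := (hmQ i).at_principal; rw [(sums i).2.2] at h; simp only [P]; omega)
    (fun i => degZero _ _ (hmA i) (vA i)) (fun i => degZero _ _ (hmB i) (vB i)) hlin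
  -- degrees and values of the units
  let l : Fin 3 → ℂ := fun i => ev (fun χ : IrrCharacter G => (χ : G → ℂ) 1) (L i)
  have hne1 : ∀ χ : IrrCharacter G, (χ : G → ℂ) 1 ≠ 0 := fun χ => irr_one_ne_zero χ
  -- the involutions
  let el : Fin 3 → H := fun p =>
    e.symm ⟨rep p, mem_Mset.1 (Finset.mem_filter.1 (rep_mem p)).1⟩
  have im_el : ∀ p, im e (el p) = rep p := fun p => by simp [el, im]
  have el_sq : ∀ p, (el p : G) * el p = 1 := fun p => by
    have h := (Finset.mem_filter.1 (rep_mem p)).2.2.1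
    rw [← im_el p, ← im_mul, ← im_one e] at h
    exact congrArg Subtype.val (im_inj e h)
  have conj_el : ∀ (a : H) (p : Fin 3), im e a ≠ 1 → im e a * im e a = 1 →
      cmp p (im e a) = 1 → IsConj (el p : G) (a : G) := by
    intro a p h1 h2 h3
    obtain ⟨w, hw, hwa⟩ := inv_conj p _ (Finset.mem_filter.2 ⟨im_mem e a, h1, h2, h3⟩)
    refine isConj_iff.2 ⟨(e.symm ⟨w, mem_Mset.1 hw⟩ : H), ?_⟩
    rw [← Subgroup.coe_inv, ← Subgroup.coe_mul, ← Subgroup.coe_mul]
    refine congrArg Subtype.val (im_inj e ?_)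
    rw [← hwa, ← im_el p]
    simp [im]
  let S : Fin 3 → Finset (Fin 3) := fun p =>
    Finset.univ.filter fun q => IsConj (el p : G) (el q : G)
  have hS : ∀ (p : Fin 3) (a : H), IsConj (el p : G) (a : G) ↔
      im e a ≠ 1 ∧ im e a * im e a = 1 ∧ ∃ q ∈ S p, cmp q (im e a) = 1 := by
    intro p a
    refine ⟨fun h => ?_, fun ⟨h1, h2, q, hq, h3⟩ =>
      (Finset.mem_filter.1 hq).2.trans (conj_el a q h1 h2 h3)⟩
    obtain ⟨c, hc⟩ := isConj_iff.1 h
    have h2 : im e a * im e a = 1 := by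
      rw [← im_mul, ← im_one e]
      congr 1
      refine Subtype.ext ?_
      show (a : G) * a = 1
      rw [← hc, show c * (el p : G) * c⁻¹ * (c * (el p : G) * c⁻¹) =
        c * ((el p : G) * el p) * c⁻¹ by group, el_sq]
      group
    have h1 : im e a ≠ 1 := by
      intro h'
      have ha : a = 1 := im_inj e (by rw [h', im_one])
      rw [ha, OneMemClass.coe_one, conj_eq_one_iff] at hc
      refine (Finset.mem_filter.1 (rep_mem p)).2.1 ?_
      rw [← im_el p, show el p = 1 from Subtype.ext hc, im_one]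
    obtain ⟨q, hq⟩ := inv_cases _ (im_mem e a) h1 h2
    exact ⟨h1, h2, q,
      Finset.mem_filter.2 ⟨Finset.mem_univ _, h.trans (conj_el a q h1 h2 hq).symm⟩, hq⟩
  let v : Fin 3 → Fin 3 → ℂ := fun p i =>
    ev (fun χ : IrrCharacter G => (χ : G → ℂ) (el p : G)) (L i)
  let C : Fin 3 → ℂ := fun p =>
    162 * (Nat.card G : ℂ) / (108 * (Nat.card {x : G // IsConj (el p : G) x} : ℂ) ^ 2)
  have hC0 : ∀ p, C p ≠ 0 := fun p => by
    haveI : Nonempty {x : G // IsConj (el p : G) x} := ⟨⟨_, IsConj.refl _⟩⟩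
    exact div_ne_zero (mul_ne_zero (by norm_num) (Nat.cast_ne_zero.2 Nat.card_pos.ne'))
      (mul_ne_zero (by norm_num) (pow_ne_zero _ (Nat.cast_ne_zero.2 Nat.card_pos.ne')))
  have key : ∀ (p i j k : Fin 3), j = i + 1 → k = i + 2 →
      l i ≠ 0 ∧ 1 + l i ≠ 0 ∧
      (v p i - l i) ^ 2 = C p * (-(rI (S p) (fA i) : ℂ) / 162) * (l i * (1 + l i)) ∧
      (v p j * l k - v p k * l j) ^ 2 =
        C p * (-(rI (S p) (fB i) : ℂ) / 162) * (l j * l k * (l j + l k)) ∧
      ((1 + v p i) * (l j + l k) - (v p j + v p k) * (1 + l i)) ^ 2 =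
        C p * (-(rI (S p) (fQ i) : ℂ) / 162) *
          ((1 + l i) * (l j + l k) * (1 + l i + (l j + l k))) := by
    intro p i j k hj hk
    subst hj hk
    obtain ⟨uL, uP, uM, uR, eA, eB, eQ, -, -, -⟩ := hU i
    obtain ⟨uLj, -⟩ := hU (i + 1)
    obtain ⟨uLk, -⟩ := hU (i + 2)
    let w1 := fun χ : IrrCharacter G => (χ : G → ℂ) 1
    let wu := fun χ : IrrCharacter G => (χ : G → ℂ) (el p : G)
    let wE := fun χ : IrrCharacter G => (χ : G → ℂ) (el p : G) ^ 2 / (χ : G → ℂ) 1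
    have pr : ∀ w : IrrCharacter G → ℂ,
        ev w (mA i) = -w P + ev w (Pp i) - ev w (L i) ∧
        ev w (mB i) = ev w (Pm i) - ev w (L (i + 1)) - ev w (L (i + 2)) ∧
        ev w (mQ i) = ev w (R i) - ev w (Pp i) - ev w (Pm i) := fun w => by
      rw [eA, eB, eQ]
      simp only [ev_sub, ev_add, ev_neg, ev_single, Int.cast_one, one_mul, and_self]
    have z1A := (hmA i).zero_at (vA i) (mul_one 1)
    have z1B := (hmB i).zero_at (vB i) (mul_one 1)
    have z1Q := (hmQ i).zero_at (vQ i) (mul_one 1)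
    have zuA := (hmA i).zero_at (vA i) (el_sq p)
    have zuB := (hmB i).zero_at (vB i) (el_sq p)
    have zuQ := (hmQ i).zero_at (vQ i) (el_sq p)
    rw [(pr _).1] at z1A zuA
    rw [(pr _).2.1] at z1B zuB
    rw [(pr _).2.2] at z1Q zuQ
    simp only [P, principalIrr_apply] at z1A zuA
    have cA := (hmA i).class_eq (vA i) hinv (el_sq p) (S p) (hS p)
    have cB := (hmB i).class_eq (vB i) hinv (el_sq p) (S p) (hS p)
    have cQ := (hmQ i).class_eq (vQ i) hinv (el_sq p) (S p) (hS p)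
    rw [(pr _).1] at cA
    rw [(pr _).2.1] at cB
    rw [(pr _).2.2] at cQ
    simp only [P, principalIrr_apply, one_pow, div_one] at cA
    obtain ⟨nL, qL⟩ := ev_unit wu w1 hne1 uL
    obtain ⟨nP, qP⟩ := ev_unit wu w1 hne1 uP
    obtain ⟨nM, qM⟩ := ev_unit wu w1 hne1 uM
    obtain ⟨nR, qR⟩ := ev_unit wu w1 hne1 uR
    obtain ⟨nLj, qLj⟩ := ev_unit wu w1 hne1 uLj
    obtain ⟨nLk, qLk⟩ := ev_unit wu w1 hne1 uLk
    have hP1 : ev w1 (Pp i) = 1 + l i := by linear_combination z1A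
    have hPu : ev wu (Pp i) = 1 + v p i := by linear_combination zuA
    have hM1 : ev w1 (Pm i) = l (i + 1) + l (i + 2) := by linear_combination z1B
    have hMu : ev wu (Pm i) = v p (i + 1) + v p (i + 2) := by linear_combination zuB
    have hR1 : ev w1 (R i) = 1 + l i + (l (i + 1) + l (i + 2)) := by
      linear_combination z1Q + hP1 + hM1
    have hRu : ev wu (R i) = 1 + v p i + (v p (i + 1) + v p (i + 2)) := by
      linear_combination zuQ + hPu + hMu
    rw [hP1] at nP qP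
    rw [hM1] at nM qM
    rw [hR1] at nR qR
    rw [hPu] at qP
    rw [hMu] at qM
    rw [hRu] at qR
    rw [qP, qL] at cA
    rw [qM, qLj, qLk] at cB
    rw [qR, qP, qM] at cQ
    refine ⟨nL, nP, ?_, ?_, ?_⟩
    · refine (algA nL nP cA).trans ?_
      simp only [C]
      ring
    · refine (algB nLj nLk nM cB).trans ?_
      simp only [C]
      ring
    · refine (algB nP nM nR cQ).trans ?_
      simp only [C]
      ring
  have hone : ∀ i, l i = 1 := all_one l v C hC0 S
    (fun p => Finset.mem_filter.2 ⟨Finset.mem_univ _, IsConj.refl _⟩)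
    (fun p q hq => by
      ext r
      simp only [S, Finset.mem_filter, Finset.mem_univ, true_and] at hq ⊢
      exact ⟨fun h => hq.trans h, fun h => hq.symm.trans h⟩) key
  -- the linear characters
  have hhom : ∀ i, ∃ φ : G →* ℂˣ, ∀ h : H, (φ h : ℂ) = (lam i (im e h) : ℂ) := by
    intro i
    obtain ⟨uL, -, -, -, -, -, -, dA, dB, -⟩ := hU i
    obtain ⟨x, ε, hε, hx⟩ := exists_single uL
    have h1 := hone i
    simp only [l, hx, ev_single, hdegC] at h1
    have hεd : ε * d x = 1 := by exact_mod_cast h1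
    have hdpos : 0 < d x := by have := hd0 x; simp only [d]; omega
    obtain ⟨rfl, hdx⟩ : ε = 1 ∧ d x = 1 := by
      rcases hε with rfl | rfl <;> omega
    rw [hx, dotProduct_single, mul_one] at dA dB
    obtain ⟨o, ho⟩ := res_of_linear x hdx
    have ho' : o = some i := res_table i o (by rw [← (hmA i).lin x o ho, dA]; norm_num)
      (by rw [← (hmB _).lin x o ho, dB]; norm_num)
    subst ho'
    obtain ⟨φ, hφ⟩ := hom_of_linear x hdx
    refine ⟨φ, fun h => ?_⟩
    have h2 := ho h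
    rw [hφ] at h2
    exact h2
  obtain ⟨φ0, hφ0⟩ := hhom 0
  obtain ⟨φ1, hφ1⟩ := hhom 1
  exact eq_top_of_homs e hTH hT hN hC φ0 φ1 hφ0 hφ1

end CfsgLib.ThreeCubed
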