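import Cfsg.Agent.Lib.Characters.Induction
import Cfsg.Agent.Lib.Characters.Generalized
import Cfsg.Agent.Lib.Characters.Galois
import Mathlib.GroupTheory.SpecificGroups.Dihedral
import Mathlib.GroupTheory.Perm.Basic
import Mathlib.Logic.Equiv.Fin.Basic

/-!
# The group `3³ : 2²` inside the cube of the dihedral group of order six
-/

set_option autoImplicit false

namespace CfsgLib.ThreeCubed

open Cfsg CfsgLib.Characters

/-- The dihedral group of order six. -/
abbrev D3 : Type := DihedralGroup 3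

/-- The cube of the dihedral group of order six. -/
abbrev Vec : Type := D3 × D3 × D3

/-- Coordinates. -/
def cmp : Fin 3 → Vec → D3
  | 0, v => v.1
  | 1, v => v.2.1
  | 2, v => v.2.2

/-- The sign of an element of `D3`. -/
def sgn : D3 → ℤ
  | .r _ => 1
  | .sr _ => -1

/-- The character of degree two of `D3`. -/
def two : D3 → ℤ
  | .r i => if i = 0 then 2 else -1
  | .sr _ => 0

/-- The rotation matrices. -/
def rot : ZMod 3 → Matrix (Fin 2) (Fin 2) ℤ := fun i =>
  if i = 0 then 1 else if i = 1 then !![0, -1; 1, -1] else !![-1, 1; -1, 0]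

/-- The matrix representation of degree two. -/
def Rm : D3 → Matrix (Fin 2) (Fin 2) ℤ
  | .r i => rot i
  | .sr i => !![0, 1; 1, 0] * rot i

/-- The action on three points. -/
def act : D3 → ZMod 3 → ZMod 3
  | .r i => fun x => x - i
  | .sr i => fun x => i - x

theorem sgn_mul : ∀ a b : D3, sgn (a * b) = sgn a * sgn b := by decide +kernel

theorem sgn_one : sgn 1 = 1 := rfl

theorem Rm_mul : ∀ a b : D3, Rm (a * b) = Rm a * Rm b := by decide +kernel

theorem Rm_one : Rm 1 = 1 := by decide +kernel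

theorem trace_Rm : ∀ a : D3, (Rm a).trace = two a := by decide +kernel

theorem cmp_mul : ∀ (i : Fin 3) (v w : Vec), cmp i (v * w) = cmp i v * cmp i w := by
  intro i v w; fin_cases i <;> rfl

theorem cmp_one : ∀ (i : Fin 3), cmp i (1 : Vec) = 1 := by decide +kernel

/-- The coordinate homomorphisms. -/
def cmpHom (i : Fin 3) : Vec →* D3 where
  toFun := cmp i
  map_one' := cmp_one i
  map_mul' := cmp_mul i

/-- The sign as a homomorphism. -/
def sgnHom : D3 →* ℤ where
  toFun := sgn
  map_one' := sgn_one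
  map_mul' := sgn_mul

/-- The product of the three signs. -/
def sg (v : Vec) : ℤ := sgn v.1 * sgn v.2.1 * sgn v.2.2

/-- The product of the three signs as a homomorphism. -/
def sgHom : Vec →* ℤ where
  toFun := sg
  map_one' := rfl
  map_mul' a b := by simp only [sg, Prod.fst_mul, Prod.snd_mul, sgn_mul]; ring

/-- The group of order 108. -/
def M : Subgroup Vec := sgHom.ker

theorem mem_M {v : Vec} : v ∈ M ↔ sg v = 1 := MonoidHom.mem_ker

/-- Its underlying finite set. -/
def Mset : Finset Vec := Finset.univ.filter fun v => sg v = 1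

theorem mem_Mset {v : Vec} : v ∈ Mset ↔ v ∈ M := by simp [Mset, mem_M]

theorem card_M : Nat.card M = 108 := by
  rw [Nat.subtype_card Mset fun v => mem_Mset]
  decide +kernel

theorem sum_M [Fintype M] {β : Type*} [AddCommMonoid β] (F : Vec → β) :
    ∑ h : M, F h = ∑ v ∈ Mset, F v :=
  (Finset.sum_subtype Mset (fun _ => mem_Mset) F).symm

/-- The permutation of three points given by an element of `D3`. -/
def actHom : D3 →* Equiv.Perm (ZMod 3) where
  toFun a := ⟨act a, act a⁻¹, by revert a; decide +kernel, by revert a; decide +kernel⟩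
  map_one' := by ext x; revert x; decide +kernel
  map_mul' a b := by ext x; revert a b x; decide +kernel

/-- The action on nine points. -/
def phi : Vec →* Equiv.Perm (Fin 9) where
  toFun v := (finProdFinEquiv : Fin 3 × ZMod 3 ≃ Fin 9).permCongr
    (Equiv.prodCongrRight fun k => actHom (cmp k v))
  map_one' := by
    refine Equiv.ext fun x => ?_
    simp only [Equiv.permCongr_apply, Equiv.prodCongrRight, Equiv.coe_fn_mk, cmp_one, map_one]
    exact (finProdFinEquiv : Fin 3 × ZMod 3 ≃ Fin 9).apply_symm_apply x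
  map_mul' v w := by
    refine Equiv.ext fun x => ?_
    simp only [Equiv.permCongr_apply, Equiv.prodCongrRight, Equiv.coe_fn_mk, cmp_mul, map_mul,
      Equiv.Perm.coe_mul, Function.comp_apply, Equiv.symm_apply_apply]
    rfl

theorem phi_injective : Function.Injective phi := by
  refine (injective_iff_map_eq_one phi).2 ?_
  decide +kernel

/-- Generators. -/
def g1 : Vec := (.r 2, 1, 1)
/-- Generators. -/
def g2 : Vec := (1, .r 2, 1)
/-- Generators. -/
def g3 : Vec := (1, 1, .r 2)
/-- Generators. -/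
def g4 : Vec := (.sr 1, .sr 1, 1)
/-- Generators. -/
def g5 : Vec := (.sr 1, 1, .sr 1)

theorem gen_M : ∀ v ∈ Mset, ∃ i j k : Fin 3, ∃ a b : Fin 2,
    v = g1 ^ i.val * g2 ^ j.val * g3 ^ k.val * g4 ^ a.val * g5 ^ b.val := by decide +kernel

theorem closure_eq : Subgroup.closure
    ({g1, g2, g3, g4, g5} : Set Vec) = M := by
  refine le_antisymm ((Subgroup.closure_le _).2 ?_) fun v hv => ?_
  · intro v hv
    simp only [Set.mem_insert_iff, Set.mem_singleton_iff] at hv
    rw [SetLike.mem_coe, mem_M]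
    rcases hv with rfl | rfl | rfl | rfl | rfl <;> decide +kernel
  · obtain ⟨i, j, k, a, b, rfl⟩ := gen_M v (mem_Mset.2 hv)
    exact mul_mem (mul_mem (mul_mem (mul_mem
      (pow_mem (Subgroup.subset_closure (by simp)) _)
      (pow_mem (Subgroup.subset_closure (by simp)) _))
      (pow_mem (Subgroup.subset_closure (by simp)) _))
      (pow_mem (Subgroup.subset_closure (by simp)) _))
      (pow_mem (Subgroup.subset_closure (by simp)) _)

theorem phi_gens : phi g1 = Equiv.swap (0 : Fin 9) 1 * Equiv.swap 1 2 ∧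
    phi g2 = Equiv.swap (3 : Fin 9) 4 * Equiv.swap 4 5 ∧
    phi g3 = Equiv.swap (6 : Fin 9) 7 * Equiv.swap 7 8 ∧
    phi g4 = Equiv.swap (0 : Fin 9) 1 * Equiv.swap 3 4 ∧
    phi g5 = Equiv.swap (0 : Fin 9) 1 * Equiv.swap 6 7 := by decide +kernel

/-- The group generated by the given permutations is a copy of `M`. -/
noncomputable def closureEquiv : Subgroup.closure ({Equiv.swap (0 : Fin 9) 1 * Equiv.swap 1 2,
      Equiv.swap (3 : Fin 9) 4 * Equiv.swap 4 5, Equiv.swap (6 : Fin 9) 7 * Equiv.swap 7 8,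
      Equiv.swap (0 : Fin 9) 1 * Equiv.swap 3 4, Equiv.swap (0 : Fin 9) 1 * Equiv.swap 6 7} :
        Set (Equiv.Perm (Fin 9))) ≃* M :=
  (MulEquiv.subgroupCongr (by
    obtain ⟨h1, h2, h3, h4, h5⟩ := phi_gens
    rw [← closure_eq, MonoidHom.map_closure]
    simp only [Set.image_insert_eq, Set.image_singleton, h1, h2, h3, h4, h5])).trans
    (M.equivMapOfInjective phi phi_injective).symm

/-! ### Characters -/

/-- The linear characters. -/
def lam (i : Fin 3) (v : Vec) : ℤ := sgn (cmp i v)
/-- Characters of degree two. -/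
def pls (i : Fin 3) (v : Vec) : ℤ := two (cmp i v)
/-- Characters of degree two. -/
def mns (i : Fin 3) (v : Vec) : ℤ := two (cmp i v) * sgn (cmp (i + 1) v)
/-- A character of degree four. -/
def tht (v : Vec) : ℤ := two v.1 * two v.2.1

/-- The first special function. -/
def fA (i : Fin 3) (v : Vec) : ℤ := pls i v - 1 - lam i v
/-- The second special function. -/
def fB (i : Fin 3) (v : Vec) : ℤ := mns i v - lam (i + 1) v - lam (i + 2) v
/-- The third special function. -/
def fQ (i : Fin 3) (v : Vec) : ℤ := tht v - pls i v - mns i v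

/-- A function on `M` from an integral function on `Vec`. -/
noncomputable def cst (f : Vec → ℤ) : M → ℂ := fun h => (f h : ℂ)

theorem isCharacter_lam (i : Fin 3) : IsCharacter M (cst (lam i)) :=
  CfsgLib.Induction.isCharacter_monoidHom
    (((Int.castRingHom ℂ).toMonoidHom.comp (sgnHom.comp (cmpHom i))).comp M.subtype)

theorem isCharacter_pls (i : Fin 3) : IsCharacter M (cst (pls i)) := by
  have h := CfsgLib.Induction.isCharacter_of_matrix
    ((((Int.castRingHom ℂ).mapMatrix).toMonoidHom.comp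
      ((⟨⟨Rm, Rm_one⟩, Rm_mul⟩ : D3 →* Matrix (Fin 2) (Fin 2) ℤ).comp (cmpHom i))).comp M.subtype)
  refine (funext fun g => ?_ : cst (pls i) = _) ▸ h
  show _ = ((Rm (cmp i (g : Vec))).map (Int.castRingHom ℂ)).trace
  rw [cst, pls, ← trace_Rm]
  simp [Matrix.trace]

theorem isGeneralized_lam (i : Fin 3) : IsGeneralizedCharacter M (cst (lam i)) :=
  isGeneralizedCharacter_of_isCharacter (isCharacter_lam i)

theorem isGeneralized_pls (i : Fin 3) : IsGeneralizedCharacter M (cst (pls i)) :=
  isGeneralizedCharacter_of_isCharacter (isCharacter_pls i)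

theorem isGeneralized_mns (i : Fin 3) : IsGeneralizedCharacter M (cst (mns i)) :=
  (funext fun g => by simp [cst, mns, pls, lam] :
    cst (pls i) * cst (lam (i + 1)) = cst (mns i)) ▸
    isGeneralizedCharacter_mul (isGeneralized_pls i) (isGeneralized_lam (i + 1))

theorem isGeneralized_tht : IsGeneralizedCharacter M (cst tht) :=
  (funext fun g => by simp [cst, tht, pls, cmp] :
    cst (pls 0) * cst (pls 1) = cst tht) ▸
    isGeneralizedCharacter_mul (isGeneralized_pls 0) (isGeneralized_pls 1)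

theorem isGeneralized_fA (i : Fin 3) : IsGeneralizedCharacter M (cst (fA i)) :=
  (funext fun g => by simp [cst, fA] :
    cst (pls i) - 1 - cst (lam i) = cst (fA i)) ▸
    isGeneralizedCharacter_sub (isGeneralizedCharacter_sub (isGeneralized_pls i)
      isGeneralizedCharacter_one) (isGeneralized_lam i)

theorem isGeneralized_fB (i : Fin 3) : IsGeneralizedCharacter M (cst (fB i)) :=
  (funext fun g => by simp [cst, fB] :
    cst (mns i) - cst (lam (i + 1)) - cst (lam (i + 2)) = cst (fB i)) ▸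
    isGeneralizedCharacter_sub (isGeneralizedCharacter_sub (isGeneralized_mns i)
      (isGeneralized_lam _)) (isGeneralized_lam _)

theorem isGeneralized_fQ (i : Fin 3) : IsGeneralizedCharacter M (cst (fQ i)) :=
  (funext fun g => by simp [cst, fQ] :
    cst tht - cst (pls i) - cst (mns i) = cst (fQ i)) ▸
    isGeneralizedCharacter_sub (isGeneralizedCharacter_sub isGeneralized_tht
      (isGeneralized_pls i)) (isGeneralized_mns i)

/-! ### Finite facts -/

/-- The special elements are those with nontrivial square. -/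
theorem vanish : ∀ (i : Fin 3) (v : Vec), v ∈ Mset → v * v = 1 →
    fA i v = 0 ∧ fB i v = 0 ∧ fQ i v = 0 := by decide +kernel

/-- Scaled inner product. -/
def ip (f g : Vec → ℤ) : ℤ := ∑ v ∈ Mset, f v * g v

theorem gram : ∀ i j : Fin 3,
    ip (fA i) (fA j) = (if i = j then 324 else 108) ∧
    ip (fB i) (fB j) = (if i = j then 324 else 108) ∧
    ip (fB i) (fA j) = (if i = j then 0 else 108) ∧
    ip (fQ i) (fA j) = (if i = j then -108 else 0) ∧
    ip (fQ i) (fB j) = (if i = j then -108 else 0) ∧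
    ip (fQ i) (fQ i) = 324 := by decide +kernel

theorem sums : ∀ i : Fin 3, ∑ v ∈ Mset, fA i v = -108 ∧ ∑ v ∈ Mset, fB i v = 0 ∧
    ∑ v ∈ Mset, fQ i v = 0 := by decide +kernel

/-- The class of the involutions fixing the given coordinate. -/
def inv1 (p : Fin 3) : Finset Vec := Mset.filter fun v => v ≠ 1 ∧ v * v = 1 ∧ cmp p v = 1

/-- Representatives. -/
def rep : Fin 3 → Vec := ![(1, .sr 1, .sr 1), (.sr 1, 1, .sr 1), (.sr 1, .sr 1, 1)]

/-- Sum over the products of a union of involution classes. -/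
def rI (S : Finset (Fin 3)) (f : Vec → ℤ) : ℤ :=
  ∑ a ∈ Mset.filter (fun v => v ≠ 1 ∧ v * v = 1 ∧ ∃ p ∈ S, cmp p v = 1),
    ∑ b ∈ Mset.filter (fun v => v ≠ 1 ∧ v * v = 1 ∧ ∃ p ∈ S, cmp p v = 1), f (a * b)

theorem rI_single : ∀ p : Fin 3, rI {p} (fA p) = 0 ∧ rI {p} (fB p) = 0 ∧
    rI {p} (fQ p) = -324 ∧
    (∀ q, q ≠ p → rI {p} (fA q) = -162 ∧ rI {p} (fB q) = -162 ∧ rI {p} (fQ q) = 0) := by
  decide +kernel

theorem rI_pair : ∀ p : Fin 3, rI (Finset.univ.erase p) (fA p) = -648 ∧
    rI (Finset.univ.erase p) (fB p) = 0 ∧ rI (Finset.univ.erase p) (fQ p) = 0 ∧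
    (∀ q, q ≠ p → rI (Finset.univ.erase p) (fA q) = -162) := by decide +kernel

theorem rI_all : ∀ p : Fin 3, rI Finset.univ (fA p) = -648 ∧ rI Finset.univ (fB p) = 0 ∧
    rI Finset.univ (fQ p) = -324 := by decide +kernel

theorem rep_mem : ∀ p : Fin 3, rep p ∈ inv1 p := by decide +kernel

theorem inv_cases : ∀ v ∈ Mset, v ≠ 1 → v * v = 1 → ∃ p, cmp p v = 1 := by decide +kernel

theorem inv_conj : ∀ (p : Fin 3), ∀ v ∈ inv1 p, ∃ w ∈ Mset, w * rep p * w⁻¹ = v := by
  decide +kernel

theorem inv_unique : ∀ (p q : Fin 3), ∀ v ∈ inv1 p, cmp q v = 1 → q = p := by decide +kernel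

/-- The elements of the normal subgroup of order 27. -/
def Tset : Finset Vec := Mset.filter fun v => v * v * v = 1

theorem card_Tset : Tset.card = 27 := by decide +kernel

theorem sq_mem_Tset : ∀ v ∈ Mset, v * v ∈ Tset := by decide +kernel

theorem Tset_comm : ∀ v ∈ Tset, ∀ w ∈ Tset, v * w = w * v := by decide +kernel

theorem mem_Tset_iff : ∀ v ∈ Mset, v ∈ Tset ↔ ∀ i, lam i v = 1 := by decide +kernel

theorem Tset_commutator : ∀ v ∈ Tset, ∃ w ∈ Mset, ∃ z ∈ Mset,
    ∃ w' ∈ Mset, ∃ z' ∈ Mset, v = w * z * w⁻¹ * z⁻¹ * (w' * z' * w'⁻¹ * z'⁻¹) := by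
  decide +kernel

theorem coset_cases : ∀ v ∈ Mset, ∃ a b : Fin 2, v * (g4 ^ a.val * g5 ^ b.val) ∈ Tset := by
  decide +kernel

theorem lam_gens : lam 0 g4 = -1 ∧ lam 0 g5 = -1 ∧ lam 1 g4 = -1 ∧ lam 1 g5 = 1 ∧
    lam 2 g4 = 1 ∧ lam 2 g5 = -1 ∧ g4 ∈ Mset ∧ g5 ∈ Mset ∧ g4 * g4 = 1 ∧ g5 * g5 = 1 := by
  decide +kernel

end CfsgLib.ThreeCubed
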